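import Mathlib.AlgebraicGeometry.AffineTransitionLimit
import Mathlib.AlgebraicGeometry.Morphisms.QuasiSeparated

/-!
# Base changes along the stages of a limit with affine transition maps

Given a cofiltered diagram `D` with limit cone `c`, an index `i₀` and `a : Z ⟶ D i₀`, the schemes
`Z ×_{D i₀} D j` form a diagram `diag D i₀ a` over `Over i₀` whose limit is `Z ×_{D i₀} c.pt`.
-/

set_option autoImplicit false
set_option backward.isDefEq.respectTransparency false
universe u

open CategoryTheory Limits AlgebraicGeometry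

noncomputable section

namespace GrothLib.LimDesc

variable {I : Type u} [SmallCategory I] (D : I ⥤ Scheme.{u}) (i₀ : I)
  {Z Z' : Scheme.{u}} (a : Z ⟶ D.obj i₀) (a' : Z' ⟶ D.obj i₀)

/-- The transition map between two stages. -/
def stageTrans {j k : Over i₀} (φ : j ⟶ k) : pullback a (D.map j.hom) ⟶ pullback a (D.map k.hom) :=
  pullback.lift (pullback.fst _ _) (pullback.snd _ _ ≫ D.map φ.left)
    (by rw [pullback.condition, Category.assoc, ← D.map_comp, Over.w φ])

/-- The diagram of base changes. -/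
@[simps]
def diag : Over i₀ ⥤ Scheme.{u} where
  obj j := pullback a (D.map j.hom)
  map φ := stageTrans D i₀ a φ
  map_id j := by ext <;> simp [stageTrans]
  map_comp φ ψ := by
    apply pullback.hom_ext <;> simp [stageTrans]

@[reassoc]
lemma map_fst {j k : Over i₀} (φ : j ⟶ k) :
    (diag D i₀ a).map φ ≫ pullback.fst a (D.map k.hom) = pullback.fst a (D.map j.hom) :=
  pullback.lift_fst _ _ _

@[reassoc]
lemma map_snd {j k : Over i₀} (φ : j ⟶ k) :
    (diag D i₀ a).map φ ≫ pullback.snd a (D.map k.hom) =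
      pullback.snd a (D.map j.hom) ≫ D.map φ.left :=
  pullback.lift_snd _ _ _

lemma isPullback_map {j k : Over i₀} (φ : j ⟶ k) :
    IsPullback ((diag D i₀ a).map φ) (pullback.snd a (D.map j.hom)) (pullback.snd a (D.map k.hom))
      (D.map φ.left) := by
  refine IsPullback.of_right ?_ (map_snd D i₀ a φ) (IsPullback.of_hasPullback a (D.map k.hom))
  rw [map_fst, ← D.map_comp, Over.w φ]
  exact IsPullback.of_hasPullback _ _

section

variable [∀ (i j : I) (f : i ⟶ j), IsAffineHom (D.map f)]

instance isAffineHom_fst (j : Over i₀) : IsAffineHom (pullback.fst a (D.map j.hom)) :=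
  MorphismProperty.pullback_fst _ _ inferInstance

instance isAffineHom_map {j k : Over i₀} (φ : j ⟶ k) : IsAffineHom ((diag D i₀ a).map φ) :=
  MorphismProperty.of_isPullback (P := @IsAffineHom) (isPullback_map D i₀ a φ).flip inferInstance

instance compactSpace_obj [CompactSpace Z] (j : Over i₀) : CompactSpace ↥((diag D i₀ a).obj j) :=
  haveI := isAffineHom_fst D i₀ a j
  QuasiCompact.compactSpace_of_compactSpace (pullback.fst a (D.map j.hom))

instance quasiSeparatedSpace_obj [QuasiSeparatedSpace Z] (j : Over i₀) :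
    QuasiSeparatedSpace ↥((diag D i₀ a).obj j) :=
  haveI := isAffineHom_fst D i₀ a j
  quasiSeparatedSpace_of_quasiSeparated (pullback.fst a (D.map j.hom))

end

/-- The natural map between stages induced by a map `Z' ⟶ Z` over `D i₀`. -/
def mapNat (h : Z' ⟶ Z) (e : h ≫ a = a') : diag D i₀ a' ⟶ diag D i₀ a where
  app j := pullback.lift (pullback.fst _ _ ≫ h) (pullback.snd _ _)
    (by rw [Category.assoc, e, pullback.condition])
  naturality j k φ := by
    change stageTrans D i₀ a' φ ≫ _ = _ ≫ stageTrans D i₀ a φ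
    apply pullback.hom_ext <;> simp [stageTrans]

@[reassoc]
lemma mapNat_fst (h : Z' ⟶ Z) (e : h ≫ a = a') (j : Over i₀) :
    (mapNat D i₀ a a' h e).app j ≫ pullback.fst a (D.map j.hom) =
      pullback.fst a' (D.map j.hom) ≫ h :=
  pullback.lift_fst _ _ _

@[reassoc]
lemma mapNat_snd (h : Z' ⟶ Z) (e : h ≫ a = a') (j : Over i₀) :
    (mapNat D i₀ a a' h e).app j ≫ pullback.snd a (D.map j.hom) = pullback.snd a' (D.map j.hom) :=
  pullback.lift_snd _ _ _

/-- A map at a stage is the base change of `h`. -/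
lemma isPullback_mapNat (h : Z' ⟶ Z) (e : h ≫ a = a') (j : Over i₀) :
    IsPullback (pullback.fst a' (D.map j.hom)) ((mapNat D i₀ a a' h e).app j) h
      (pullback.fst a (D.map j.hom)) := by
  refine IsPullback.of_bot ?_ (mapNat_fst D i₀ a a' h e j).symm (IsPullback.of_hasPullback a (D.map j.hom))
  rw [e, mapNat_snd]
  exact IsPullback.of_hasPullback _ _

lemma isPullback_mapNat_map (h : Z' ⟶ Z) (e : h ≫ a = a') {j k : Over i₀} (φ : j ⟶ k) :
    IsPullback ((diag D i₀ a').map φ) ((mapNat D i₀ a a' h e).app j)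
      ((mapNat D i₀ a a' h e).app k) ((diag D i₀ a).map φ) := by
  refine IsPullback.of_right ?_ ((mapNat D i₀ a a' h e).naturality φ) (isPullback_mapNat D i₀ a a' h e k)
  rw [map_fst, map_fst]
  exact isPullback_mapNat D i₀ a a' h e j

/-- A stage of `h` (transferring a property to the form used in the statements). -/
lemma exists_stage {X₀ Y₀ : Scheme.{u}} (f₀ : X₀ ⟶ Y₀) (g₀ : Y₀ ⟶ D.obj i₀)
    (P : ∀ {A B : Scheme.{u}}, (A ⟶ B) → Prop)
    (H : ∃ j : Over i₀, P ((mapNat D i₀ g₀ (f₀ ≫ g₀) f₀ rfl).app j)) :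
    ∃ (i : I) (φ : i ⟶ i₀) (Xi Yi : Scheme.{u}) (fi : Xi ⟶ Yi) (gi : Yi ⟶ D.obj i) (pY : Yi ⟶ Y₀)
      (pX : Xi ⟶ X₀), IsPullback pY gi g₀ (D.map φ) ∧ IsPullback pX fi f₀ pY ∧ P fi := by
  obtain ⟨j, hj⟩ := H
  exact ⟨j.left, j.hom, _, _, _, _, _, _, IsPullback.of_hasPullback g₀ (D.map j.hom),
    isPullback_mapNat D i₀ g₀ (f₀ ≫ g₀) f₀ rfl j, hj⟩

section Cone

variable {c : Cone D} {P P' : Scheme.{u}}
  {q : P ⟶ Z} {p : P ⟶ c.pt} (hP : IsPullback q p a (c.π.app i₀))

/-- The cone over the diagram of base changes. -/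
@[simps pt]
def cone : Cone (diag D i₀ a) where
  pt := P
  π :=
    { app := fun j => pullback.lift q (p ≫ c.π.app j.left)
        (by rw [Category.assoc, c.w, hP.w])
      naturality := fun j k φ => by
        change 𝟙 _ ≫ _ = _ ≫ stageTrans D i₀ a φ
        apply pullback.hom_ext <;> simp [stageTrans] }

@[reassoc]
lemma π_fst (j : Over i₀) : (cone D i₀ a hP).π.app j ≫ pullback.fst a (D.map j.hom) = q :=
  pullback.lift_fst _ _ _

@[reassoc]
lemma π_snd (j : Over i₀) :
    (cone D i₀ a hP).π.app j ≫ pullback.snd a (D.map j.hom) = p ≫ c.π.app j.left :=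
  pullback.lift_snd _ _ _

variable [IsCofiltered I]

include hP in
/-- The base change of the limit is the limit of the base changes. -/
def isLimitCone (hc : IsLimit c) : IsLimit (cone D i₀ a hP) := by
  have ex : ∀ s : Cone (diag D i₀ a), ∃ m : s.pt ⟶ P, ∀ j, m ≫ (cone D i₀ a hP).π.app j = s.π.app j ∧
      ∀ m' : s.pt ⟶ P, (∀ j, m' ≫ (cone D i₀ a hP).π.app j = s.π.app j) → m' = m := by
    intro s
    let hc' := (Functor.Initial.isLimitWhiskerEquiv (Over.forget i₀) c).symm hc
    let s' : Cone (Over.forget i₀ ⋙ D) :=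
      { pt := s.pt
        π :=
          { app := fun j => s.π.app j ≫ pullback.snd a (D.map j.hom)
            naturality := fun j k φ => by
              refine (Category.id_comp _).trans ?_
              rw [← s.w φ, Category.assoc, map_snd]
              exact (Category.assoc _ _ _).symm } }
    let t : s.pt ⟶ c.pt := hc'.lift s'
    have ht : ∀ j : Over i₀, t ≫ c.π.app j.left = s.π.app j ≫ pullback.snd a (D.map j.hom) :=
      fun j => hc'.fac s' j
    let top : Over i₀ := Over.mk (𝟙 i₀)
    have hfst : ∀ j : Over i₀,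
        s.π.app j ≫ pullback.fst a (D.map j.hom) = s.π.app top ≫ pullback.fst a (D.map top.hom) := by
      intro j
      rw [← s.w (Over.homMk j.hom : j ⟶ top), Category.assoc, map_fst]
    have cond : (s.π.app top ≫ pullback.fst a (D.map top.hom)) ≫ a = t ≫ c.π.app i₀ := by
      rw [Category.assoc, pullback.condition, ← Category.assoc, ← ht top, Category.assoc, c.w]
    refine ⟨hP.lift _ t cond, fun j => ⟨?_, ?_⟩⟩
    · apply pullback.hom_ext
      · rw [Category.assoc, π_fst, hP.lift_fst]; exact (hfst j).symm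
      · rw [Category.assoc, π_snd, hP.lift_snd_assoc]
        exact ht j
    · intro m' hm'
      apply hP.hom_ext
      · rw [hP.lift_fst, ← hm' top, Category.assoc, π_fst]
      · rw [hP.lift_snd]
        refine hc'.hom_ext fun j => ?_
        change (m' ≫ p) ≫ c.π.app j.left = t ≫ c.π.app j.left
        rw [ht, ← hm' j, Category.assoc, Category.assoc, π_snd]
  exact
    { lift := fun s => (ex s).choose
      fac := fun s j => ((ex s).choose_spec j).1
      uniq := fun s m hm => ((ex s).choose_spec (Over.mk (𝟙 i₀))).2 m hm }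

omit [IsCofiltered I] in
/-- The base change of `h` to the limit is the base change of the map at each stage. -/
lemma isPullback_π (h : Z' ⟶ Z) (e : h ≫ a = a')
    {q' : P' ⟶ Z'} {p' : P' ⟶ c.pt} (hP' : IsPullback q' p' a' (c.π.app i₀)) (f : P' ⟶ P) (h1 : f ≫ q = q' ≫ h) (h2 : f ≫ p = p') (j : Over i₀) :
    IsPullback ((cone D i₀ a' hP').π.app j) f ((mapNat D i₀ a a' h e).app j)
      ((cone D i₀ a hP).π.app j) := by
  have w : (cone D i₀ a' hP').π.app j ≫ (mapNat D i₀ a a' h e).app j =
      f ≫ (cone D i₀ a hP).π.app j := by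
    apply pullback.hom_ext
    · rw [Category.assoc, Category.assoc, mapNat_fst, π_fst, π_fst_assoc, h1]
    · rw [Category.assoc, Category.assoc, mapNat_snd, π_snd, π_snd, reassoc_of% h2]
  refine IsPullback.of_right ?_ w (isPullback_mapNat D i₀ a a' h e j)
  rw [π_fst, π_fst]
  refine IsPullback.of_bot ?_ h1.symm hP
  rw [e, h2]
  exact hP'

end Cone

end GrothLib.LimDesc
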