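import Groth.Agent.Lib.LimDesc.Finite
import Groth.Agent.Lib.Chow.Projective

/-!
# Descending proper morphisms along limits
-/

set_option autoImplicit false
set_option backward.isDefEq.respectTransparency false
set_option linter.style.haveILetI false
universe u

open CategoryTheory Limits AlgebraicGeometry

noncomputable section

namespace GrothLib.LimDesc

/-- Two base changes of the same morphism along the same morphism are isomorphic. -/
theorem of_isPullback_of_isPullback {A B C A₁ A₂ : Scheme.{u}} (P : MorphismProperty Scheme.{u})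
    [P.RespectsIso] {h : A ⟶ B} {r : C ⟶ B} {q₁ : A₁ ⟶ A} {p₁ : A₁ ⟶ C} {q₂ : A₂ ⟶ A} {p₂ : A₂ ⟶ C}
    (h₁ : IsPullback q₁ p₁ h r) (h₂ : IsPullback q₂ p₂ h r) (hp : P p₁) : P p₂ := by
  rw [← h₂.isoIsPullback_hom_snd _ _ h₁]
  exact (P.cancel_left_of_respectsIso _ _).mpr hp

variable {I : Type u} [SmallCategory I] [IsCofiltered I] (D : I ⥤ Scheme.{u}) {c : Cone D}
  (hc : IsLimit c) [∀ (i j : I) (f : i ⟶ j), IsAffineHom (D.map f)] {i₀ : I}
  {X₀ Y₀ : Scheme.{u}} (f₀ : X₀ ⟶ Y₀) (g₀ : Y₀ ⟶ D.obj i₀) {X Y : Scheme.{u}} {f : X ⟶ Y}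
  {g : Y ⟶ c.pt} {qY : Y ⟶ Y₀} {qX : X ⟶ X₀}
  (hY : IsPullback qY g g₀ (c.π.app i₀)) (hX : IsPullback qX f f₀ qY)
  [CompactSpace X₀] [QuasiSeparatedSpace X₀] [CompactSpace Y₀] [QuasiSeparatedSpace Y₀]

include hc hY hX in
/-- **Proper morphisms descend to a stage.** -/
theorem exists_isProper [LocallyOfFiniteType f₀] [IsProper f] :
    ∃ j : Over i₀, IsProper ((mapNat D i₀ g₀ (f₀ ≫ g₀) f₀ rfl).app j) := by
  obtain ⟨j, hsep⟩ := exists_isSeparated D hc f₀ g₀ hY hX
  let N := mapNat D i₀ g₀ (f₀ ≫ g₀) f₀ rfl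
  haveI : IsSeparated (N.app j) := hsep
  haveI : LocallyOfFiniteType (N.app j) := MorphismProperty.of_isPullback
    (P := @LocallyOfFiniteType) (isPullback_mapNat D i₀ g₀ (f₀ ≫ g₀) f₀ rfl j) inferInstance
  haveI := compactSpace_obj D i₀ g₀ j
  haveI := quasiSeparatedSpace_obj D i₀ g₀ j
  haveI := compactSpace_obj D i₀ (f₀ ≫ g₀) j
  haveI := quasiSeparatedSpace_obj D i₀ (f₀ ≫ g₀) j
  haveI : QuasiCompact (N.app j) := quasiCompact_of_compactSpace _
  obtain ⟨M, X', π, i, hi, hib, hπ, hπs⟩ := GrothLib.Chow.chow (N.app j)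
  haveI := GrothLib.Chow.isProper_toBase M ((diag D i₀ g₀).obj j)
  let tB := CohB1.ProjSpaceOver.toBase M ((diag D i₀ g₀).obj j)
  let g' : CohB1.ProjSpaceOver M ((diag D i₀ g₀).obj j) ⟶ D.obj j.left := tB ≫ pullback.snd g₀ (D.map j.hom)
  haveI : CompactSpace X' := QuasiCompact.compactSpace_of_compactSpace π
  haveI : QuasiSeparatedSpace X' := quasiSeparatedSpace_of_quasiSeparated π
  haveI : CompactSpace ↥(CohB1.ProjSpaceOver M ((diag D i₀ g₀).obj j)) :=
    QuasiCompact.compactSpace_of_compactSpace tB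
  haveI : QuasiSeparatedSpace ↥(CohB1.ProjSpaceOver M ((diag D i₀ g₀).obj j)) :=
    quasiSeparatedSpace_of_quasiSeparated tB
  -- the projective space over the limit
  let rY := (cone D i₀ g₀ hY).π.app j
  have hrY : IsPullback rY g (pullback.snd g₀ (D.map j.hom)) (c.π.app j.left) := by
    refine IsPullback.of_right ?_ (π_snd D i₀ g₀ hY j) (IsPullback.of_hasPullback g₀ (D.map j.hom))
    rw [π_fst, c.w]
    exact hY
  let rX := (cone D i₀ (f₀ ≫ g₀) (hX.paste_vert hY)).π.app j
  have hrX : IsPullback rX f (N.app j) rY :=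
    isPullback_π D i₀ g₀ (f₀ ≫ g₀) hY f₀ rfl (hX.paste_vert hY) f hX.w.symm rfl j
  let qP := pullback.fst tB rY
  let il := pullback.snd i qP
  have hY' : IsPullback qP (pullback.snd tB rY ≫ g) g' (c.π.app j.left) :=
    (IsPullback.of_hasPullback tB rY).paste_vert hrY
  have hX' : IsPullback (pullback.fst i qP) il i qP := IsPullback.of_hasPullback i qP
  haveI : IsImmersion il := MorphismProperty.pullback_snd i qP ‹_›
  have h1 : IsPullback (pullback.fst π rX) (pullback.snd π rX ≫ f) (π ≫ N.app j) rY :=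
    (IsPullback.of_hasPullback π rX).paste_vert hrX
  have h2 : IsPullback (pullback.fst i qP) (il ≫ pullback.snd tB rY) (i ≫ tB) rY :=
    hX'.paste_vert (IsPullback.of_hasPullback tB rY)
  rw [← hib] at h1
  haveI : IsProper (pullback.snd π rX) := MorphismProperty.pullback_snd π rX hπ
  haveI : IsProper (il ≫ pullback.snd tB rY) := of_isPullback_of_isPullback @IsProper h1 h2 inferInstance
  haveI : IsProper (pullback.snd tB rY) := MorphismProperty.pullback_snd tB rY inferInstance
  haveI : IsProper il := IsProper.of_comp il (pullback.snd tB rY)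
  haveI : IsClosedImmersion il := GrothLib.Chow.isClosedImmersion_of_isImmersion_of_isProper il
  -- descend the closed immersion
  obtain ⟨j₂, hj₂⟩ := exists_isClosedImmersion D hc i g' hY' hX'
  let k : Over i₀ := Over.mk (j₂.hom ≫ j.hom)
  let φ : k ⟶ j := Over.homMk j₂.hom rfl
  have hk : IsPullback ((diag D i₀ (f₀ ≫ g₀)).map φ) (N.app k) (N.app j) ((diag D i₀ g₀).map φ) :=
    isPullback_mapNat_map D i₀ g₀ (f₀ ≫ g₀) f₀ rfl φ
  have hP : IsPullback (pullback.fst tB ((diag D i₀ g₀).map φ))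
      (pullback.snd tB ((diag D i₀ g₀).map φ) ≫ pullback.snd g₀ (D.map k.hom)) g' (D.map j₂.hom) :=
    (IsPullback.of_hasPullback tB ((diag D i₀ g₀).map φ)).paste_vert (isPullback_map D i₀ g₀ φ)
  let e := hP.isoPullback
  have hik : IsClosedImmersion (pullback.snd i (e.hom ≫ pullback.fst g' (D.map j₂.hom))) := by
    obtain ⟨l, hl₁, hl₂⟩ := (isPullback_mapNat D j.left g' (i ≫ g') i rfl j₂).exists_lift
      (pullback.fst i (e.hom ≫ pullback.fst g' (D.map j₂.hom)))
      (pullback.snd i (e.hom ≫ pullback.fst g' (D.map j₂.hom)) ≫ e.hom)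
      (pullback.condition.trans (Category.assoc _ _ _).symm)
    refine MorphismProperty.of_isPullback (P := @IsClosedImmersion)
      (IsPullback.of_right ?_ hl₂ (isPullback_mapNat D j.left g' (i ≫ g') i rfl j₂)) hj₂
    rw [hl₁]
    exact IsPullback.of_hasPullback _ _
  rw [IsPullback.isoPullback_hom_fst] at hik
  let πk := pullback.snd π ((diag D i₀ (f₀ ≫ g₀)).map φ)
  haveI : IsProper πk := MorphismProperty.pullback_snd π _ hπ
  haveI : Surjective πk := MorphismProperty.pullback_snd π _ hπs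
  have h3 : IsPullback (pullback.fst π ((diag D i₀ (f₀ ≫ g₀)).map φ)) (πk ≫ N.app k) (π ≫ N.app j)
      ((diag D i₀ g₀).map φ) := (IsPullback.of_hasPullback _ _).paste_vert hk
  have h4 : IsPullback (pullback.fst i (pullback.fst tB ((diag D i₀ g₀).map φ)))
      (pullback.snd i (pullback.fst tB ((diag D i₀ g₀).map φ)) ≫
        pullback.snd tB ((diag D i₀ g₀).map φ)) (i ≫ tB) ((diag D i₀ g₀).map φ) :=
    (IsPullback.of_hasPullback _ _).paste_vert (IsPullback.of_hasPullback tB ((diag D i₀ g₀).map φ))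
  haveI : IsProper (pullback.snd tB ((diag D i₀ g₀).map φ)) :=
    MorphismProperty.pullback_snd tB _ inferInstance
  rw [← hib] at h3
  haveI : IsProper (πk ≫ N.app k) := of_isPullback_of_isPullback @IsProper h4 h3 inferInstance
  haveI : IsSeparated (N.app k) := MorphismProperty.of_isPullback hk hsep
  haveI : LocallyOfFiniteType (N.app k) := MorphismProperty.of_isPullback hk ‹LocallyOfFiniteType (N.app j)›
  haveI : UniversallyClosed (N.app k) := UniversallyClosed.of_comp_surjective πk (N.app k)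
  haveI : QuasiCompact (N.app k) := MorphismProperty.of_isPullback hk ‹QuasiCompact (N.app j)›
  exact ⟨k, {}⟩

end GrothLib.LimDesc
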