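import Groth.Agent.Lib.LimDesc.Closed
import Mathlib.AlgebraicGeometry.Morphisms.Finite
import Mathlib.Algebra.Polynomial.Lifts

/-!
# Descending finite morphisms along limits, and closed immersions in the two-morphism form
-/

set_option autoImplicit false
set_option backward.isDefEq.respectTransparency false
set_option linter.style.haveILetI false
universe u

open CategoryTheory Limits AlgebraicGeometry Polynomial

noncomputable section

namespace GrothLib.LimDesc

variable {I : Type u} [SmallCategory I] [IsCofiltered I] (D : I ⥤ Scheme.{u}) {c : Cone D}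
  (hc : IsLimit c) [∀ (i j : I) (f : i ⟶ j), IsAffineHom (D.map f)] {i₀ : I}

section Single

variable {X₀ : Scheme.{u}} (a : X₀ ⟶ D.obj i₀)
  {X : Scheme.{u}} {f : X ⟶ c.pt} {qX : X ⟶ X₀} (hX : IsPullback qX f a (c.π.app i₀))

omit [∀ (i j : I) (f : i ⟶ j), IsAffineHom (D.map f)] in
include hc in
/-- A polynomial over the global sections of an affine limit comes from a stage. -/
lemma exists_stage_lifts [∀ j : Over i₀, IsAffine (D.obj j.left)] (p : Γ(c.pt, ⊤)[X]) :
    ∃ j : Over i₀, p ∈ lifts (c.π.app j.left).appTop.hom := by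
  let E := Over.forget i₀ ⋙ D
  haveI (j : Over i₀) : IsAffine (E.obj j) := inferInstanceAs (IsAffine (D.obj j.left))
  have hE : IsLimit (Cone.whisker (Over.forget i₀) c) :=
    (Functor.Initial.isLimitWhiskerEquiv (Over.forget i₀) c).symm hc
  choose jn t ht using fun n : p.support => exists_appTop_π_eq_of_isAffine_of_isLimit E _ hE (p.coeff n)
  obtain ⟨k, -, g, -⟩ := IsCofiltered.wideCospan (I := p.support) (i := Over.mk (𝟙 i₀))
    (fun n => (Over.homMk (jn n).hom : jn n ⟶ Over.mk (𝟙 i₀)))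
  refine ⟨k, (Polynomial.lifts_iff_coeff_lifts _).mpr fun n => ?_⟩
  by_cases hn : n ∈ p.support
  · refine ⟨(D.map (g ⟨n, hn⟩).left).appTop (t ⟨n, hn⟩), ?_⟩
    refine (appTop_eq_of_comp _ _ _ (c.w (g ⟨n, hn⟩).left) _).trans ?_
    exact ht ⟨n, hn⟩
  · exact ⟨0, by rw [map_zero, Polynomial.notMem_support_iff.mp hn]⟩

include hc hX in
/-- Finite morphisms descend, affine case. -/
theorem exists_isFinite_snd_of_isAffine [IsAffine (D.obj i₀)] [IsAffine X₀]
    [LocallyOfFiniteType a] [IsFinite f] :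
    ∃ j : Over i₀, IsFinite (pullback.snd a (D.map j.hom)) := by
  classical
  haveI (j : Over i₀) : IsAffine (D.obj j.left) := isAffine_of_isAffineHom (D.map j.hom)
  have hcX := isLimitCone D i₀ a hX hc
  have hft : a.appTop.hom.FiniteType := HasRingHomProperty.appTop @LocallyOfFiniteType a inferInstance
  algebraize [a.appTop.hom]
  obtain ⟨s, hs⟩ := hft
  have hE : IsLimit (Cone.whisker (Over.forget i₀) c) :=
    (Functor.Initial.isLimitWhiskerEquiv (Over.forget i₀) c).symm hc
  haveI (j : Over i₀) : IsAffine ((Over.forget i₀ ⋙ D).obj j) := inferInstanceAs (IsAffine (D.obj j.left))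
  haveI : IsAffine c.pt := Scheme.isAffine_of_isLimit (Cone.whisker (Over.forget i₀) c) hE
  have key : ∀ b : Γ(X₀, ⊤), ∃ j : Over i₀, ∀ (k : Over i₀) (_ : k ⟶ j),
      (pullback.snd a (D.map k.hom)).appTop.hom.IsIntegralElem
        ((pullback.fst a (D.map k.hom)).appTop b) := by
    intro b
    obtain ⟨p, hp, hpb⟩ := IsIntegralHom.isIntegral_app f ⊤ (isAffineOpen_top _) (qX.appTop b)
    obtain ⟨j, hj⟩ := exists_stage_lifts (i₀ := i₀) D hc p
    obtain ⟨q, hq, -, hqm⟩ := Polynomial.lifts_and_natDegree_eq_and_monic hj hp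
    let e : Γ((diag D i₀ a).obj j, ⊤) :=
      Polynomial.eval₂ (pullback.snd a (D.map j.hom)).appTop.hom
        ((pullback.fst a (D.map j.hom)).appTop b) q
    have h1 : ((cone D i₀ a hX).π.app j).appTop.hom.comp (pullback.snd a (D.map j.hom)).appTop.hom =
        (f.appTop.hom).comp (c.π.app j.left).appTop.hom :=
      RingHom.ext fun x => (appTop_eq_of_comp _ _ _ (π_snd D i₀ a hX j) x).trans
        (appTop_comp_apply f (c.π.app j.left) x)
    have h2 : ((cone D i₀ a hX).π.app j).appTop.hom ((pullback.fst a (D.map j.hom)).appTop b) =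
        qX.appTop b := appTop_eq_of_comp _ _ _ (π_fst D i₀ a hX j) b
    have he : ((cone D i₀ a hX).π.app j).appTop e = 0 := by
      refine (Polynomial.hom_eval₂ q _ ((cone D i₀ a hX).π.app j).appTop.hom _).trans ?_
      rw [h1, h2, ← Polynomial.eval₂_map, hq]
      exact hpb
    obtain ⟨k₀, φ, hφ⟩ := exists_appTop_map_eq_zero_of_isLimit (diag D i₀ a) _ hcX e he
    refine ⟨k₀, fun k ψ => ⟨q.map (D.map (ψ ≫ φ).left).appTop.hom, hqm.map _, ?_⟩⟩
    have h3 : ((diag D i₀ a).map (ψ ≫ φ)).appTop e = 0 := by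
      rw [Functor.map_comp, appTop_comp_apply, hφ, map_zero]
    have h4 : ((diag D i₀ a).map (ψ ≫ φ)).appTop.hom.comp (pullback.snd a (D.map j.hom)).appTop.hom =
        (pullback.snd a (D.map k.hom)).appTop.hom.comp (D.map (ψ ≫ φ).left).appTop.hom :=
      RingHom.ext fun x => (appTop_eq_of_comp _ _ _ (map_snd D i₀ a (ψ ≫ φ)) x).trans
        (appTop_comp_apply (pullback.snd a (D.map k.hom)) _ x)
    have h5 : ((diag D i₀ a).map (ψ ≫ φ)).appTop.hom ((pullback.fst a (D.map j.hom)).appTop b) =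
        (pullback.fst a (D.map k.hom)).appTop b := appTop_eq_of_comp _ _ _ (map_fst D i₀ a (ψ ≫ φ)) b
    have h6 := (Polynomial.hom_eval₂ q _ ((diag D i₀ a).map (ψ ≫ φ)).appTop.hom _).symm.trans h3
    rw [h4, h5, ← Polynomial.eval₂_map] at h6
    exact h6
  choose jb hjb using key
  obtain ⟨k, -, g, -⟩ := IsCofiltered.wideCospan (I := {b // b ∈ s}) (i := Over.mk (𝟙 i₀))
    (fun b => (Over.homMk (jb b.1).hom : jb b.1 ⟶ Over.mk (𝟙 i₀)))
  refine ⟨k, ?_⟩
  let φA := (pullback.snd a (D.map k.hom)).appTop.hom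
  have hA : ∀ b : Γ(X₀, ⊤), φA.IsIntegralElem ((pullback.fst a (D.map k.hom)).appTop b) := by
    intro b
    have hb : b ∈ Algebra.adjoin Γ(D.obj i₀, ⊤) (s : Set Γ(X₀, ⊤)) := hs ▸ Algebra.mem_top
    induction hb using Algebra.adjoin_induction with
    | mem b hb => exact hjb b k (g ⟨b, hb⟩)
    | algebraMap r =>
      have h : (pullback.fst a (D.map k.hom)).appTop (a.appTop r) =
          φA ((D.map k.hom).appTop r) := by
        change _ = (pullback.snd a (D.map k.hom)).appTop ((D.map k.hom).appTop r)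
        rw [← appTop_comp_apply, ← appTop_comp_apply, pullback.condition]
      change φA.IsIntegralElem ((pullback.fst a (D.map k.hom)).appTop (a.appTop r))
      rw [h]
      exact φA.isIntegralElem_map
    | add x y _ _ hx hy => rw [map_add]; exact hx.add _ hy
    | mul x y _ _ hx hy => rw [map_mul]; exact hx.mul _ hy
  let R : Subring Γ(pullback a (D.map k.hom), ⊤) :=
    { carrier := {y | φA.IsIntegralElem y}
      mul_mem' := fun hx hy => hx.mul _ hy
      one_mem' := φA.isIntegralElem_one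
      add_mem' := fun hx hy => hx.add _ hy
      zero_mem' := φA.isIntegralElem_zero
      neg_mem' := fun hx => hx.neg φA }
  have hpo := isPushout_appTop_of_isPullback (IsPullback.of_hasPullback a (D.map k.hom))
  let i1 : Γ(X₀, ⊤) ⟶ CommRingCat.of R :=
    CommRingCat.ofHom ((pullback.fst a (D.map k.hom)).appTop.hom.codRestrict R hA)
  let i2 : Γ(D.obj k.left, ⊤) ⟶ CommRingCat.of R :=
    CommRingCat.ofHom (φA.codRestrict R fun _ => φA.isIntegralElem_map)
  have w : a.appTop ≫ i1 = (D.map k.hom).appTop ≫ i2 := by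
    ext r
    exact congr($(hpo.w).hom r)
  have hid : hpo.desc i1 i2 w ≫ CommRingCat.ofHom R.subtype = 𝟙 _ := by
    apply hpo.hom_ext
    · rw [hpo.inl_desc_assoc, Category.comp_id]; rfl
    · rw [hpo.inr_desc_assoc, Category.comp_id]; rfl
  have hint : φA.IsIntegral := fun y => by
    have h := congr($(hid).hom y)
    change (hpo.desc i1 i2 w y).1 = y at h
    rw [← h]
    exact (hpo.desc i1 i2 w y).2
  haveI : IsAffine (pullback a (D.map k.hom)) := inferInstance
  rw [IsFinite.iff_isIntegralHom_and_locallyOfFiniteType]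
  exact ⟨HasAffineProperty.iff_of_isAffine.mpr ⟨inferInstance, hint⟩,
    MorphismProperty.pullback_snd _ _ inferInstance⟩

include hc hX in
/-- Finite morphisms descend to a stage. -/
theorem exists_isFinite_snd [CompactSpace ↥(D.obj i₀)] [QuasiSeparatedSpace ↥(D.obj i₀)]
    [CompactSpace X₀] [QuasiSeparatedSpace X₀] [LocallyOfFiniteType a] [IsFinite f] :
    ∃ j : Over i₀, IsFinite (pullback.snd a (D.map j.hom)) :=
  exists_snd_of_affine_case D hc a hX @IsFinite
    (fun E _ _ hE _ _ _ _ a' _ _ _ _ hX' hf => by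
      haveI := hf
      exact exists_isFinite_snd_of_isAffine E hE a' hX')
    inferInstance

end Single

variable {X₀ Y₀ : Scheme.{u}} (f₀ : X₀ ⟶ Y₀) (g₀ : Y₀ ⟶ D.obj i₀) {X Y : Scheme.{u}} {f : X ⟶ Y}
  {g : Y ⟶ c.pt} {qY : Y ⟶ Y₀} {qX : X ⟶ X₀}
  (hY : IsPullback qY g g₀ (c.π.app i₀)) (hX : IsPullback qX f f₀ qY)
  [CompactSpace X₀] [QuasiSeparatedSpace X₀] [CompactSpace Y₀] [QuasiSeparatedSpace Y₀]

omit [IsCofiltered I] [∀ (i j : I) (f : i ⟶ j), IsAffineHom (D.map f)] [CompactSpace X₀]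
  [QuasiSeparatedSpace X₀] [CompactSpace Y₀] [QuasiSeparatedSpace Y₀] in
lemma locallyOfFiniteType_topMap [LocallyOfFiniteType f₀] :
    LocallyOfFiniteType (topMap D f₀ g₀) :=
  MorphismProperty.of_isPullback (P := @LocallyOfFiniteType)
    (isPullback_mapNat D i₀ g₀ (f₀ ≫ g₀) f₀ rfl (Over.mk (𝟙 i₀))) inferInstance

include hc hY hX in
/-- Finite morphisms descend to a stage. -/
theorem exists_isFinite [LocallyOfFiniteType f₀] [IsFinite f] :
    ∃ j : Over i₀, IsFinite ((mapNat D i₀ g₀ (f₀ ≫ g₀) f₀ rfl).app j) := by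
  haveI := compactSpace_top D f₀ g₀
  haveI := quasiSeparatedSpace_top D f₀ g₀
  haveI := locallyOfFiniteType_topMap D f₀ g₀
  exact of_topMap D f₀ g₀ @IsFinite (exists_isFinite_snd (diag D i₀ g₀)
    (isLimitCone D i₀ g₀ hY hc) (topMap D f₀ g₀) (isPullback_topMap D f₀ g₀ hY hX))

include hc hY hX in
/-- Closed immersions descend to a stage. -/
theorem exists_isClosedImmersion [LocallyOfFiniteType f₀] [IsClosedImmersion f] :
    ∃ j : Over i₀, IsClosedImmersion ((mapNat D i₀ g₀ (f₀ ≫ g₀) f₀ rfl).app j) := by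
  haveI := compactSpace_top D f₀ g₀
  haveI := quasiSeparatedSpace_top D f₀ g₀
  haveI := locallyOfFiniteType_topMap D f₀ g₀
  exact of_topMap D f₀ g₀ @IsClosedImmersion (exists_isClosedImmersion_snd (diag D i₀ g₀)
    (isLimitCone D i₀ g₀ hY hc) (topMap D f₀ g₀) (isPullback_topMap D f₀ g₀ hY hX))

include hc hY hX in
/-- Immersions descend to a stage. -/
theorem exists_isImmersion [LocallyOfFiniteType f₀] [IsImmersion f] :
    ∃ j : Over i₀, IsImmersion ((mapNat D i₀ g₀ (f₀ ≫ g₀) f₀ rfl).app j) := by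
  haveI := compactSpace_top D f₀ g₀
  haveI := quasiSeparatedSpace_top D f₀ g₀
  haveI := locallyOfFiniteType_topMap D f₀ g₀
  exact of_topMap D f₀ g₀ @IsImmersion (exists_isImmersion_snd (diag D i₀ g₀)
    (isLimitCone D i₀ g₀ hY hc) (topMap D f₀ g₀) (isPullback_topMap D f₀ g₀ hY hX))

omit [CompactSpace Y₀] in
include hc hY hX in
/-- Separated morphisms descend to a stage. -/
theorem exists_isSeparated [IsSeparated f] :
    ∃ j : Over i₀, IsSeparated ((mapNat D i₀ g₀ (f₀ ≫ g₀) f₀ rfl).app j) := by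
  obtain ⟨qW, h1, h2, hW⟩ := exists_isPullback_kernel hY hX
  let aW := pullback.fst f₀ f₀ ≫ f₀ ≫ g₀
  haveI : QuasiCompact f₀ := quasiCompact_of_compactSpace f₀
  haveI : CompactSpace ↥(pullback f₀ f₀) :=
    QuasiCompact.compactSpace_of_compactSpace (pullback.fst f₀ f₀)
  haveI : QuasiSeparatedSpace ↥(pullback f₀ f₀) :=
    quasiSeparatedSpace_of_quasiSeparated (pullback.fst f₀ f₀)
  let Δ := pullback.diagonal f₀
  haveI : LocallyOfFiniteType (Δ ≫ pullback.fst f₀ f₀) := by
    rw [pullback.diagonal_fst]; infer_instance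
  haveI : LocallyOfFiniteType Δ := locallyOfFiniteType_of_comp Δ (pullback.fst f₀ f₀)
  have hΔ : Δ ≫ aW = f₀ ≫ g₀ := by simp [Δ, aW]
  have hdW : IsPullback qX (pullback.diagonal f ≫ pullback.fst f f ≫ f ≫ g) (Δ ≫ aW)
      (c.π.app i₀) := by
    rw [pullback.diagonal_fst_assoc, hΔ]
    exact hX.paste_vert hY
  have hsq : IsPullback qX (pullback.diagonal f) Δ qW := by
    refine IsPullback.of_bot hdW ?_ hW
    apply pullback.hom_ext
    · simp [Δ, h1]
    · simp [Δ, h2]
  haveI : IsClosedImmersion (pullback.diagonal f) := IsSeparated.isClosedImmersion_diagonal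
  obtain ⟨j, hj⟩ := exists_isClosedImmersion D hc Δ aW hW hsq
  refine ⟨j, ⟨?_⟩⟩
  let N := (mapNat D i₀ g₀ (f₀ ≫ g₀) f₀ rfl).app j
  obtain ⟨m, m1, m2, hm⟩ := exists_isPullback_kernel (IsPullback.of_hasPullback g₀ (D.map j.hom))
    (isPullback_mapNat D i₀ g₀ (f₀ ≫ g₀) f₀ rfl j)
  let e : pullback (Δ ≫ aW) (D.map j.hom) ≅ pullback (f₀ ≫ g₀) (D.map j.hom) :=
    pullback.congrHom hΔ rfl
  have he : (mapNat D i₀ aW (Δ ≫ aW) Δ rfl).app j =
      e.hom ≫ pullback.diagonal N ≫ hm.isoPullback.hom := by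
    apply pullback.hom_ext
    · rw [mapNat_fst, Category.assoc, Category.assoc, IsPullback.isoPullback_hom_fst]
      apply pullback.hom_ext
      · simp [Δ, e, N, m1]
      · simp [Δ, e, N, m2]
    · rw [mapNat_snd, Category.assoc, Category.assoc, IsPullback.isoPullback_hom_snd,
        show pullback.diagonal N ≫ pullback.fst N N ≫ N ≫ pullback.snd g₀ (D.map j.hom) =
          N ≫ pullback.snd g₀ (D.map j.hom) from pullback.diagonal_fst_assoc _ _,
        mapNat_snd D i₀ g₀ (f₀ ≫ g₀) f₀ rfl j]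
      simp [e]
  rw [he] at hj
  exact (MorphismProperty.cancel_right_of_respectsIso @IsClosedImmersion _ hm.isoPullback.hom).mp
    ((MorphismProperty.cancel_left_of_respectsIso @IsClosedImmersion e.hom _).mp hj)

end GrothLib.LimDesc
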