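import Groth.Agent.Lib.LimDesc.Single
import Mathlib.AlgebraicGeometry.Morphisms.Separated

/-!
# Properties of the structure maps of a limit over a fixed base, at large stages

If the limit of a cofiltered system of qcqs schemes over a quasi-separated base with affine
transition morphisms is separated over the base, then so are the stages from some index on.
-/

set_option autoImplicit false
set_option backward.isDefEq.respectTransparency false
set_option linter.style.haveILetI false
universe u

open CategoryTheory Limits AlgebraicGeometry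

noncomputable section

namespace GrothLib.LimDesc

variable {J : Type u} [SmallCategory J] [IsCofiltered J] (F : J ⥤ Scheme.{u}) {cF : Cone F}
  (hF : IsLimit cF) [∀ (i j : J) (f : i ⟶ j), IsAffineHom (F.map f)]
  [∀ i, CompactSpace ↥(F.obj i)]
  {S : Scheme.{u}} [QuasiSeparatedSpace S] (t : F ⟶ (Functor.const J).obj S)

omit [∀ (i j : J) (f : i ⟶ j), IsAffineHom (F.map f)] [∀ i, CompactSpace ↥(F.obj i)]
  [QuasiSeparatedSpace S] [IsCofiltered J] in
lemma map_structure {i j : J} (φ : i ⟶ j) : F.map φ ≫ t.app j = t.app i := by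
  rw [t.naturality]; simp

omit [∀ (i j : J) (f : i ⟶ j), IsAffineHom (F.map f)] [∀ i, CompactSpace ↥(F.obj i)]
  [QuasiSeparatedSpace S] in
lemma π_structure (i j : J) : cF.π.app i ≫ t.app i = cF.π.app j ≫ t.app j := by
  obtain ⟨k, a, b, -⟩ := IsCofilteredOrEmpty.cone_objs i j
  rw [← cF.w a, ← cF.w b, Category.assoc, Category.assoc, map_structure F t a, map_structure F t b]

/-- The diagram of fibre squares over the base. -/
@[simps]
def sqDiag : J ⥤ Scheme.{u} where
  obj k := pullback (t.app k : F.obj k ⟶ S) (t.app k)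
  map {k l} φ := pullback.map _ _ _ _ (F.map φ) (F.map φ) (𝟙 S)
    ((Category.comp_id _).trans (map_structure F t φ).symm)
    ((Category.comp_id _).trans (map_structure F t φ).symm)
  map_id k := by apply pullback.hom_ext <;> simp
  map_comp φ ψ := by apply pullback.hom_ext <;> simp

/-- The cone of fibre squares. -/
@[simps pt]
def sqCone (i₀ : J) : Cone (sqDiag F t) where
  pt := pullback (cF.π.app i₀ ≫ t.app i₀) (cF.π.app i₀ ≫ t.app i₀)
  π :=
    { app := fun k => pullback.map _ _ _ _ (cF.π.app k) (cF.π.app k) (𝟙 S)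
        ((Category.comp_id _).trans (π_structure F t i₀ k))
        ((Category.comp_id _).trans (π_structure F t i₀ k))
      naturality := fun k l φ => by
        apply pullback.hom_ext <;> simp [sqDiag] }

include hF in
/-- The fibre square of the limit is the limit of the fibre squares. -/
def isLimitSqCone (i₀ : J) : IsLimit (sqCone (cF := cF) F t i₀) := by
  let c1 : ∀ s : Cone (sqDiag F t), Cone F := fun s =>
    { pt := s.pt
      π := { app := fun k => s.π.app k ≫ pullback.fst _ _
             naturality := fun k l φ => by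
               refine (Category.id_comp _).trans ?_
               rw [← s.w φ, Category.assoc, Category.assoc]
               exact congrArg (s.π.app k ≫ ·) (pullback.lift_fst _ _ _) } }
  let c2 : ∀ s : Cone (sqDiag F t), Cone F := fun s =>
    { pt := s.pt
      π := { app := fun k => s.π.app k ≫ pullback.snd _ _
             naturality := fun k l φ => by
               refine (Category.id_comp _).trans ?_
               rw [← s.w φ, Category.assoc, Category.assoc]
               exact congrArg (s.π.app k ≫ ·) (pullback.lift_snd _ _ _) } }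
  refine
    { lift := fun s => pullback.lift (hF.lift (c1 s)) (hF.lift (c2 s)) ?_
      fac := fun s k => ?_
      uniq := fun s m hm => ?_ }
  · rw [hF.fac_assoc, hF.fac_assoc]
    exact ((Category.assoc _ _ _).trans (congrArg (s.π.app i₀ ≫ ·) pullback.condition)).trans
      (Category.assoc _ _ _).symm
  · apply pullback.hom_ext
    · simp [sqCone, c1]
    · simp [sqCone, c2]
  · apply pullback.hom_ext
    · refine hF.hom_ext fun k => ?_
      rw [pullback.lift_fst, hF.fac]
      change _ = s.π.app k ≫ pullback.fst _ _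
      rw [← hm k]
      simp [sqCone]
    · refine hF.hom_ext fun k => ?_
      rw [pullback.lift_snd, hF.fac]
      change _ = s.π.app k ≫ pullback.snd _ _
      rw [← hm k]
      simp [sqCone]

instance isAffineHom_sqDiag_map {k l : J} (φ : k ⟶ l) : IsAffineHom ((sqDiag F t).map φ) :=
  MorphismProperty.pullbackMap (P := @IsAffineHom) inferInstance inferInstance
    (map_structure F t φ).symm (map_structure F t φ).symm

instance compactSpace_sqDiag (k : J) : CompactSpace ↥((sqDiag F t).obj k) :=
  haveI : QuasiCompact (t.app k : F.obj k ⟶ S) := @quasiCompact_of_compactSpace _ S _ _ _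
  QuasiCompact.compactSpace_of_compactSpace (pullback.fst (t.app k : F.obj k ⟶ S) (t.app k))

omit [IsCofiltered J] [∀ (i j : J) (f : i ⟶ j), IsAffineHom (F.map f)] [∀ i, CompactSpace ↥(F.obj i)]
  [QuasiSeparatedSpace S] in
/-- The preimage of the diagonal of a stage in the fibre square of a higher stage. -/
lemma isPullback_sqDiag {k l : J} (φ : k ⟶ l) :
    IsPullback (pullback.fst (F.map φ) (F.map φ) ≫ F.map φ)
      (pullback.lift (pullback.fst _ _) (pullback.snd _ _)
        (by rw [← map_structure F t φ, pullback.condition_assoc]) :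
          pullback (F.map φ) (F.map φ) ⟶ (sqDiag F t).obj k)
      (pullback.diagonal (t.app l : F.obj l ⟶ S)) ((sqDiag F t).map φ) := by
  let m : pullback (F.map φ) (F.map φ) ⟶ (sqDiag F t).obj k :=
    pullback.lift (pullback.fst _ _) (pullback.snd _ _)
      (by rw [← map_structure F t φ, pullback.condition_assoc])
  have w : (pullback.fst (F.map φ) (F.map φ) ≫ F.map φ) ≫ pullback.diagonal (t.app l : F.obj l ⟶ S) =
      m ≫ (sqDiag F t).map φ := by
    apply pullback.hom_ext <;> simp [m, sqDiag, pullback.condition]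
  have h1 : ∀ s : PullbackCone (pullback.diagonal (t.app l : F.obj l ⟶ S)) ((sqDiag F t).map φ),
      (s.snd ≫ pullback.fst _ _) ≫ F.map φ = s.fst ∧
      (s.snd ≫ pullback.snd _ _) ≫ F.map φ = s.fst := by
    intro s
    refine ⟨?_, ?_⟩
    · simpa [sqDiag] using congrArg (· ≫ pullback.fst _ _) s.condition.symm
    · simpa [sqDiag] using congrArg (· ≫ pullback.snd _ _) s.condition.symm
  refine ⟨⟨w⟩, ⟨PullbackCone.IsLimit.mk _
    (fun s => pullback.lift (s.snd ≫ pullback.fst _ _) (s.snd ≫ pullback.snd _ _)
      ((h1 s).1.trans (h1 s).2.symm)) ?_ ?_ ?_⟩⟩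
  · intro s
    rw [pullback.lift_fst_assoc]
    exact (h1 s).1
  · intro s
    apply pullback.hom_ext <;> simp
  · intro s z _ h2
    apply pullback.hom_ext <;> simp [← h2]

variable [∀ i, QuasiSeparatedSpace ↥(F.obj i)]

include hF in
/-- If the limit is separated over the base, then so are the stages from some index on. -/
theorem eventually_isSeparated (i₀ : J) [IsSeparated (cF.π.app i₀ ≫ t.app i₀)] :
    ∃ i₁ : J, ∀ (i : J) (_ : i ⟶ i₁), IsSeparated (t.app i : F.obj i ⟶ S) := by
  let Δ : ∀ k, F.obj k ⟶ (sqDiag F t).obj k := fun k => pullback.diagonal (t.app k : F.obj k ⟶ S)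
  have hΔmap : ∀ {k l : J} (φ : k ⟶ l), F.map φ ≫ Δ l = Δ k ≫ (sqDiag F t).map φ := by
    intro k l φ
    apply pullback.hom_ext <;> simp [Δ, sqDiag]
  let B : ∀ k, Set ((sqDiag F t).obj k) := fun k => closure (Set.range (Δ k)) \ Set.range (Δ k)
  -- the bad sets are closed
  have hBc : ∀ k, IsClosed (B k) := by
    intro k
    have h : IsOpen (coborder (Set.range (Δ k))) :=
      (Scheme.Hom.isLocallyClosed_range (Δ k)).isOpen_coborder
    have e : B k = (coborder (Set.range (Δ k)))ᶜ := by rw [coborder, compl_compl]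
    rw [e]
    exact h.isClosed_compl
  -- a point of the diagonal of `l` below a point in the closure of the diagonal of `k`
  have hmaps : ∀ {k l : J} (φ : k ⟶ l), Set.MapsTo ((sqDiag F t).map φ) (B k) (B l) := by
    intro k l φ w hw
    refine ⟨?_, fun hwl => hw.2 ?_⟩
    · refine closure_mono ?_ (map_mem_closure ((sqDiag F t).map φ).continuous hw.1
        (Set.mapsTo_image _ _))
      rintro _ ⟨_, ⟨x, rfl⟩, rfl⟩
      exact ⟨F.map φ x, congr($(hΔmap φ).base x)⟩
    · -- the preimage of the diagonal of `l` contains the diagonal of `k` as a closed subset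
      let R := pullback (F.map φ) (F.map φ)
      let m : R ⟶ (sqDiag F t).obj k :=
        pullback.lift (pullback.fst _ _) (pullback.snd _ _) (by
          rw [← map_structure F t φ, pullback.condition_assoc])
      let p : R ⟶ F.obj l := pullback.fst _ _ ≫ F.map φ
      have hsq : IsPullback p m (Δ l) ((sqDiag F t).map φ) :=
        (isPullback_sqDiag F t φ)
      obtain ⟨r, -, hr⟩ := Scheme.exists_preimage_of_isPullback hsq hwl.choose w hwl.choose_spec
      have hclosed : IsClosed (Set.range (pullback.diagonal (F.map φ))) :=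
        (pullback.diagonal (F.map φ)).isClosedEmbedding.isClosed_range
      have hfac : pullback.diagonal (F.map φ) ≫ m = Δ k := by
        apply pullback.hom_ext <;> simp [m, Δ]
      have : r ∈ Set.range (pullback.diagonal (F.map φ)) := by
        rw [← hclosed.closure_eq]
        have hemb : Topology.IsEmbedding m := by
          haveI : IsImmersion m := MorphismProperty.of_isPullback (P := @IsImmersion) hsq inferInstance
          exact m.isEmbedding
        rw [hemb.closure_eq_preimage_closure_image, Set.mem_preimage, hr, ← Set.range_comp]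
        refine closure_mono ?_ hw.1
        rintro _ ⟨x, rfl⟩
        exact ⟨x, congr($(hfac).base x)⟩
      obtain ⟨x, hx⟩ := this
      exact ⟨x, by rw [← hr, ← hx]; exact congr($(hfac).base x).symm⟩
  by_contra hne
  push Not at hne
  have hBne : ∀ k, (B k).Nonempty := by
    intro k
    obtain ⟨i, φ, hi⟩ := hne k
    by_contra hk
    refine hi ⟨?_⟩
    refine IsClosedImmersion.of_isPreimmersion (Δ i) ?_
    refine closure_subset_iff_isClosed.mp fun w hw => ?_
    by_contra hw'
    exact hk ⟨_, hmaps φ ⟨hw, hw'⟩⟩
  obtain ⟨w, hw⟩ := exists_mem_of_isClosed_of_nonempty (sqDiag F t) (sqCone (cF := cF) F t i₀)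
    (isLimitSqCone F hF t i₀) B hBc hBne (fun k => (hBc k).isCompact) (fun φ => hmaps φ)
  -- `w` is not on the diagonal of the limit
  let Δc := pullback.diagonal (cF.π.app i₀ ≫ t.app i₀)
  have hΔc : ∀ k, Δc ≫ (sqCone (cF := cF) F t i₀).π.app k = cF.π.app k ≫ Δ k := by
    intro k
    apply pullback.hom_ext <;> simp [Δc, Δ, sqCone]
  by_cases hwΔ : w ∈ Set.range Δc
  · obtain ⟨x, rfl⟩ := hwΔ
    exact (hw i₀).2 ⟨cF.π.app i₀ x, congr($(hΔc i₀).base x).symm⟩
  haveI : IsClosedImmersion Δc := IsSeparated.isClosedImmersion_diagonal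
  let O : (sqCone (cF := cF) F t i₀).pt.Opens :=
    ⟨(Set.range Δc)ᶜ, Δc.isClosedEmbedding.isClosed_range.isOpen_compl⟩
  have hwO : w ∈ O := hwΔ
  obtain ⟨_, ⟨k, V, hV, rfl⟩, hwV, hVO⟩ :=
    TopologicalSpace.Opens.isBasis_iff_nbhd.mp
      (isBasis_preimage_isAffineOpen (sqDiag F t) (sqCone (cF := cF) F t i₀)
        (isLimitSqCone F hF t i₀)) hwO
  haveI : CompactSpace cF.pt := Scheme.compactSpace_of_isLimit F cF hF
  haveI : QuasiCompact (Δ k) := QuasiSeparated.quasiCompact_diagonal
  obtain ⟨l, φ, hl⟩ := exists_map_preimage_le_map_preimage F cF hF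
    (U := Δ k ⁻¹ᵁ V) (V := ⊥) ((Δ k).isCompact_preimage hV.isCompact) (by
      intro x hx
      refine absurd (hVO (x := Δc x) ?_) (fun h => h ⟨x, rfl⟩)
      have h := congr($(hΔc k).base x)
      change (sqCone (cF := cF) F t i₀).π.app k (Δc x) ∈ V
      exact Set.mem_of_eq_of_mem h hx)
  have hwl := (hw l).1
  have hV' : (sqCone (cF := cF) F t i₀).π.app l w ∈ (sqDiag F t).map φ ⁻¹ᵁ V := by
    change ((sqCone (cF := cF) F t i₀).π.app l ≫ (sqDiag F t).map φ) w ∈ V
    rw [(sqCone (cF := cF) F t i₀).w]
    exact hwV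
  obtain ⟨_, hy, x, rfl⟩ := mem_closure_iff.mp hwl _ ((sqDiag F t).map φ ⁻¹ᵁ V).2 hV'
  have hx : x ∈ F.map φ ⁻¹ᵁ (Δ k ⁻¹ᵁ V) := by
    change (F.map φ ≫ Δ k) x ∈ V
    rw [hΔmap φ]
    exact hy
  simpa using hl hx

end GrothLib.LimDesc
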