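import Groth.Agent.Lib.LimDesc.Closed
import Groth.Agent.Lib.LimDesc.Eventual
import Mathlib.AlgebraicGeometry.Morphisms.Finite
import Mathlib.Algebra.Polynomial.Lifts
import Mathlib.RingTheory.IntegralClosure.IsIntegralClosure.Basic

/-!
# Closed immersions and finite morphisms to a fixed base at large stages

If the transition maps of a limit are closed immersions (finite morphisms), the stages are locally
of finite type over the base and the limit is a closed immersion (integral) over the base, then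
some stage is a closed immersion (finite) over the base.
-/

set_option autoImplicit false
set_option backward.isDefEq.respectTransparency false
set_option linter.style.haveILetI false
universe u

open CategoryTheory Limits AlgebraicGeometry

noncomputable section

namespace GrothLib.LimDesc

section Affine

variable {J : Type u} [SmallCategory J] [IsCofiltered J] (F : J ⥤ Scheme.{u}) {cF : Cone F}
  (hF : IsLimit cF) [∀ (i j : J) (f : i ⟶ j), IsAffineHom (F.map f)] [∀ i, IsAffine (F.obj i)]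
  {S : Scheme.{u}} [IsAffine S] (t : F ⟶ (Functor.const J).obj S)

include hF in
/-- Affine case, closed immersions. -/
theorem eventually_isClosedImmersion_of_isAffine
    [∀ (i j : J) (f : i ⟶ j), IsClosedImmersion (F.map f)] (i₀ : J)
    [LocallyOfFiniteType (t.app i₀ : F.obj i₀ ⟶ S)]
    [IsClosedImmersion (cF.π.app i₀ ≫ t.app i₀)] :
    ∃ k, IsClosedImmersion (t.app k : F.obj k ⟶ S) := by
  classical
  haveI : ∀ j, IsAffine (((Functor.const J).obj S).obj j) := fun _ => ‹IsAffine S›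
  let t₀ : F.obj i₀ ⟶ S := t.app i₀
  have hft : t₀.appTop.hom.FiniteType := HasRingHomProperty.appTop @LocallyOfFiniteType t₀ inferInstance
  algebraize [t₀.appTop.hom]
  obtain ⟨s, hs⟩ := hft
  haveI : IsAffine cF.pt := Scheme.isAffine_of_isLimit cF hF
  have key : ∀ b : Γ(F.obj i₀, ⊤), ∃ (j : J) (φ : j ⟶ i₀),
      (F.map φ).appTop b ∈ (t.app j : F.obj j ⟶ S).appTop.hom.range := by
    intro b
    obtain ⟨x, hx⟩ := (IsClosedImmersion.isAffine_surjective_of_isAffine
      (f := cF.π.app i₀ ≫ t.app i₀)).2 ((cF.π.app i₀).appTop b)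
    obtain ⟨j, φ, hφ⟩ := exists_appTop_map_eq_zero_of_isLimit F cF hF (b - t₀.appTop x) (by
      rw [map_sub, sub_eq_zero, ← hx]
      exact appTop_comp_apply _ _ _)
    refine ⟨j, φ, x, ?_⟩
    rw [map_sub, sub_eq_zero] at hφ
    exact ((appTop_eq_of_comp _ _ _ (map_structure F t φ) x).symm.trans hφ.symm)
  choose jb φb hjb using key
  obtain ⟨k, φk, g, hg⟩ := IsCofiltered.wideCospan (I := {b // b ∈ s}) (fun b => φb b.1)
  refine ⟨k, ?_⟩
  let tk : F.obj k ⟶ S := t.app k
  have hA : ∀ b : Γ(F.obj i₀, ⊤), (F.map φk).appTop b ∈ tk.appTop.hom.range := by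
    intro b
    have hb : b ∈ Algebra.adjoin Γ(S, ⊤) (s : Set Γ(F.obj i₀, ⊤)) := hs ▸ Algebra.mem_top
    induction hb using Algebra.adjoin_induction with
    | mem b hb =>
      obtain ⟨y, hy⟩ := hjb b
      refine ⟨y, ?_⟩
      rw [← hg ⟨b, hb⟩, Functor.map_comp, appTop_comp_apply, ← hy]
      exact (appTop_eq_of_comp _ _ _ (map_structure F t (g ⟨b, hb⟩)) y).symm
    | algebraMap r => exact ⟨r, (appTop_eq_of_comp _ _ _ (map_structure F t φk) r).symm⟩
    | add x y _ _ hx hy => rw [map_add]; exact add_mem hx hy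
    | mul x y _ _ hx hy => rw [map_mul]; exact mul_mem hx hy
  refine IsClosedImmersion.of_surjective_of_isAffine _ fun y => ?_
  obtain ⟨b, rfl⟩ := (IsClosedImmersion.isAffine_surjective_of_isAffine (f := F.map φk)).2 y
  exact hA b

include hF in
/-- Affine case, finite morphisms. -/
theorem eventually_isFinite_of_isAffine
    [∀ (i j : J) (f : i ⟶ j), IsFinite (F.map f)] (i₀ : J)
    [∀ i, LocallyOfFiniteType (t.app i : F.obj i ⟶ S)]
    [IsIntegralHom (cF.π.app i₀ ≫ t.app i₀)] :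
    ∃ k, IsFinite (t.app k : F.obj k ⟶ S) := by
  classical
  haveI : ∀ j, IsAffine (((Functor.const J).obj S).obj j) := fun _ => ‹IsAffine S›
  let t₀ : F.obj i₀ ⟶ S := t.app i₀
  have hft : t₀.appTop.hom.FiniteType := HasRingHomProperty.appTop @LocallyOfFiniteType t₀ inferInstance
  algebraize [t₀.appTop.hom]
  obtain ⟨s, hs⟩ := hft
  have key : ∀ b : Γ(F.obj i₀, ⊤), ∃ (j : J) (φ : j ⟶ i₀),
      (t.app j : F.obj j ⟶ S).appTop.hom.IsIntegralElem ((F.map φ).appTop b) := by
    intro b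
    obtain ⟨p, hp, hpb⟩ := IsIntegralHom.isIntegral_app (cF.π.app i₀ ≫ t.app i₀) ⊤
      (isAffineOpen_top _) ((cF.π.app i₀).appTop b)
    let e : Γ(F.obj i₀, ⊤) := Polynomial.eval₂ t₀.appTop.hom b p
    have h1 : (cF.π.app i₀).appTop.hom.comp t₀.appTop.hom =
        (cF.π.app i₀ ≫ t.app i₀).appTop.hom :=
      RingHom.ext fun x => (appTop_comp_apply (cF.π.app i₀) t₀ x).symm
    obtain ⟨j, φ, hφ⟩ := exists_appTop_map_eq_zero_of_isLimit F cF hF e (by
      refine (Polynomial.hom_eval₂ p _ (cF.π.app i₀).appTop.hom b).trans ?_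
      rw [h1]
      exact hpb)
    refine ⟨j, φ, p, hp, ?_⟩
    have h2 : (F.map φ).appTop.hom.comp t₀.appTop.hom = (t.app j : F.obj j ⟶ S).appTop.hom :=
      RingHom.ext fun x => appTop_eq_of_comp _ _ _ (map_structure F t φ) x
    have h3 := (Polynomial.hom_eval₂ p _ (F.map φ).appTop.hom b).symm.trans hφ
    rw [h2] at h3
    exact h3
  choose jb φb hjb using key
  obtain ⟨k, φk, g, hg⟩ := IsCofiltered.wideCospan (I := {b // b ∈ s}) (fun b => φb b.1)
  refine ⟨k, ?_⟩
  let tk : F.obj k ⟶ S := t.app k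
  have hA : ∀ b : Γ(F.obj i₀, ⊤), tk.appTop.hom.IsIntegralElem ((F.map φk).appTop b) := by
    intro b
    have hb : b ∈ Algebra.adjoin Γ(S, ⊤) (s : Set Γ(F.obj i₀, ⊤)) := hs ▸ Algebra.mem_top
    induction hb using Algebra.adjoin_induction with
    | mem b hb =>
      have h := (hjb b).map (F.map (g ⟨b, hb⟩)).appTop.hom
      have h2 : (F.map (g ⟨b, hb⟩)).appTop.hom.comp (t.app (jb b) : _ ⟶ S).appTop.hom =
          tk.appTop.hom :=
        RingHom.ext fun x => appTop_eq_of_comp _ _ _ (map_structure F t (g ⟨b, hb⟩)) x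
      rw [h2] at h
      have h3 : (F.map (g ⟨b, hb⟩)).appTop ((F.map (φb b)).appTop b) = (F.map φk).appTop b := by
        rw [← hg ⟨b, hb⟩, Functor.map_comp, appTop_comp_apply]
      rw [← h3]
      exact h
    | algebraMap r =>
      rw [show (F.map φk).appTop (algebraMap Γ(S, ⊤) Γ(F.obj i₀, ⊤) r) = tk.appTop r from
        appTop_eq_of_comp _ _ _ (map_structure F t φk) r]
      exact tk.appTop.hom.isIntegralElem_map
    | add x y _ _ hx hy => rw [map_add]; exact hx.add _ hy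
    | mul x y _ _ hx hy => rw [map_mul]; exact hx.mul _ hy
  have hint : tk.appTop.hom.IsIntegral := by
    intro y
    algebraize [tk.appTop.hom]
    obtain ⟨p, hp, hpy⟩ := IsIntegralHom.isIntegral_app (F.map φk) ⊤ (isAffineOpen_top _) y
    let ψ : Γ(F.obj i₀, ⊤) →+* integralClosure Γ(S, ⊤) Γ(F.obj k, ⊤) :=
      (F.map φk).appTop.hom.codRestrict _ hA
    have hy : IsIntegral (integralClosure Γ(S, ⊤) Γ(F.obj k, ⊤)) y := by
      refine ⟨p.map ψ, hp.map ψ, ?_⟩
      rw [Polynomial.eval₂_map]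
      exact hpy
    exact isIntegral_trans (A := integralClosure Γ(S, ⊤) Γ(F.obj k, ⊤)) y hy
  rw [IsFinite.iff_isIntegralHom_and_locallyOfFiniteType]
  exact ⟨HasAffineProperty.iff_of_isAffine.mpr ⟨inferInstance, hint⟩, inferInstance⟩

end Affine

variable {J : Type u} [SmallCategory J] [IsCofiltered J] (F : J ⥤ Scheme.{u}) {cF : Cone F}
  (hF : IsLimit cF) [∀ (i j : J) (f : i ⟶ j), IsAffineHom (F.map f)]
  [∀ i, CompactSpace ↥(F.obj i)] [∀ i, QuasiSeparatedSpace ↥(F.obj i)]
  {S : Scheme.{u}} [CompactSpace S] [QuasiSeparatedSpace S] (t : F ⟶ (Functor.const J).obj S)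

include hF in
/-- Reduction to the affine case. -/
theorem eventually_of_affine_case (P Q : MorphismProperty Scheme.{u}) [IsZariskiLocalAtTarget P]
    [P.IsStableUnderBaseChange] [P.IsStableUnderComposition] [Q.IsStableUnderBaseChange]
    (hP : ∀ (i j : J) (f : i ⟶ j), P (F.map f))
    [∀ i, LocallyOfFiniteType (t.app i : F.obj i ⟶ S)]
    (H : ∀ {J' : Type u} [SmallCategory J'] [IsCofiltered J'] (G : J' ⥤ Scheme.{u}) {cG : Cone G},
      IsLimit cG → ∀ [∀ (i j : J') (f : i ⟶ j), IsAffineHom (G.map f)] [∀ i, IsAffine (G.obj i)],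
      (∀ (i j : J') (f : i ⟶ j), P (G.map f)) →
      ∀ {U : Scheme.{u}} [IsAffine U] (tU : G ⟶ (Functor.const J').obj U) (i : J')
        [∀ l, LocallyOfFiniteType (tU.app l : G.obj l ⟶ U)],
        Q (cG.π.app i ≫ tU.app i) → ∃ k, P (tU.app k : G.obj k ⟶ U))
    (i₀ : J) [IsAffineHom (cF.π.app i₀ ≫ t.app i₀)] (hQ : Q (cF.π.app i₀ ≫ t.app i₀)) :
    ∃ (k : J), ∀ (i : J) (_ : i ⟶ k), P (t.app i : F.obj i ⟶ S) := by
  obtain ⟨k₀, -, hk₀⟩ := eventually_isAffineHom F cF hF t i₀
  obtain ⟨s, hs⟩ := isCompact_univ.elim_finite_subcover (fun U : S.affineOpens => (U.1 : Set S))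
    (fun U => U.1.2) (fun x _ => by
      have := (iSup_affineOpens_eq_top S).ge (Set.mem_univ x)
      simpa using this)
  have hle : ∀ (U : S.Opens) (l : Over k₀), F.map l.hom ⁻¹ᵁ ((t.app k₀ : F.obj k₀ ⟶ S) ⁻¹ᵁ U) =
      (t.app l.left : F.obj l.left ⟶ S) ⁻¹ᵁ U := by
    intro U l
    rw [← Scheme.Hom.comp_preimage]
    exact congr($(map_structure F t l.hom) ⁻¹ᵁ U)
  have hstage : ∀ U : {U // U ∈ s}, ∃ (k : J) (φ : k ⟶ k₀),
      P ((t.app k : F.obj k ⟶ S) ∣_ U.1.1) := by
    intro U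
    let O : (F.obj k₀).Opens := (t.app k₀ : F.obj k₀ ⟶ S) ⁻¹ᵁ U.1.1
    have hO : IsAffineOpen O := U.1.2.preimage (t.app k₀ : F.obj k₀ ⟶ S)
    let G := opensDiagram F k₀ O
    haveI (l : Over k₀) : IsAffine (G.obj l) := hO.preimage (F.map l.hom)
    haveI : IsAffine U.1.1.toScheme := U.1.2
    let tU : G ⟶ (Functor.const (Over k₀)).obj U.1.1.toScheme :=
      { app := fun l => (t.app l.left : F.obj l.left ⟶ S).resLE U.1.1 _ (hle U.1.1 l).le
        naturality := fun l m ψ => by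
          change (F.map ψ.left).resLE _ _ _ ≫ _ = _ ≫ 𝟙 _
          rw [Scheme.Hom.resLE_comp_resLE, Category.comp_id, ← cancel_mono U.1.1.ι,
            Scheme.Hom.resLE_comp_ι, Scheme.Hom.resLE_comp_ι, map_structure F t ψ.left] }
    haveI (l : Over k₀) : LocallyOfFiniteType (tU.app l : G.obj l ⟶ U.1.1.toScheme) :=
      inferInstanceAs (LocallyOfFiniteType ((t.app l.left : F.obj l.left ⟶ S).resLE U.1.1 _ _))
    have hG : ∀ (l m : Over k₀) (ψ : l ⟶ m), P (G.map ψ) := by
      intro l m ψ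
      refine MorphismProperty.of_isPullback (P := P)
        (IsOpenImmersion.isPullback ((F.map ψ.left).resLE _ (F.map l.hom ⁻¹ᵁ O) _)
          (F.map l.hom ⁻¹ᵁ O).ι (F.map m.hom ⁻¹ᵁ O).ι (F.map ψ.left)
          (Scheme.Hom.resLE_comp_ι _ _).symm ?_).flip (hP _ _ ψ.left)
      rw [Scheme.Opens.opensRange_ι, Scheme.Opens.opensRange_ι, ← Scheme.Hom.comp_preimage,
        ← F.map_comp, Over.w ψ]
    let top : Over k₀ := Over.mk (𝟙 k₀)
    let cG := opensCone F cF k₀ O
    have hQ' : Q (cG.π.app top ≫ tU.app top) := by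
      have hbase : (cF.π.app i₀ ≫ t.app i₀) = cF.π.app k₀ ≫ t.app k₀ := π_structure F t i₀ k₀
      refine MorphismProperty.of_isPullback (P := Q)
        (IsOpenImmersion.isPullback (cG.π.app top ≫ tU.app top) (cF.π.app k₀ ⁻¹ᵁ O).ι U.1.1.ι
          (cF.π.app i₀ ≫ t.app i₀) ?_ ?_).flip hQ
      · change _ = ((cF.π.app k₀).resLE _ _ _ ≫ (t.app k₀ : F.obj k₀ ⟶ S).resLE _ _ _) ≫ _
        rw [Category.assoc, Scheme.Hom.resLE_comp_ι, Scheme.Hom.resLE_comp_ι_assoc, hbase]
      · rw [hbase, Scheme.Opens.opensRange_ι, Scheme.Opens.opensRange_ι]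
        exact Scheme.Hom.comp_preimage _ _ _
    obtain ⟨l, hl⟩ := H G (isLimitOpensCone F cF hF k₀ O) hG tU top hQ'
    refine ⟨l.left, l.hom, ?_⟩
    have e : (t.app l.left : F.obj l.left ⟶ S) ∣_ U.1.1 =
        (Scheme.isoOfEq _ (hle U.1.1 l).symm).hom ≫ tU.app l := by
      rw [← cancel_mono U.1.1.ι, morphismRestrict_ι, Category.assoc]
      change _ = _ ≫ (t.app l.left : F.obj l.left ⟶ S).resLE _ _ _ ≫ _
      rw [Scheme.Hom.resLE_comp_ι, Scheme.isoOfEq_hom_ι_assoc]
    rw [e]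
    exact (P.cancel_left_of_respectsIso _ _).mpr hl
  choose kU φU hU using hstage
  obtain ⟨k, -, g, -⟩ := IsCofiltered.wideCospan φU
  refine ⟨k, fun i ψ => ?_⟩
  have hcov : ⨆ U : {U // U ∈ s}, U.1.1 = ⊤ := by
    refine top_le_iff.mp fun x _ => ?_
    obtain ⟨U, hUs, hx⟩ := Set.mem_iUnion₂.mp (hs (Set.mem_univ x))
    exact TopologicalSpace.Opens.mem_iSup.mpr ⟨⟨U, hUs⟩, hx⟩
  rw [IsZariskiLocalAtTarget.iff_of_iSup_eq_top (P := P) _ hcov]
  intro U
  have e := map_structure F t (ψ ≫ g U)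
  rw [← e, morphismRestrict_comp]
  exact P.comp_mem _ _ (IsZariskiLocalAtTarget.restrict (hP _ _ _) _) (hU U)

include hF in
/-- Closed immersions over the base at large stages. -/
theorem eventually_isClosedImmersion [∀ (i j : J) (f : i ⟶ j), IsClosedImmersion (F.map f)]
    [∀ i, LocallyOfFiniteType (t.app i : F.obj i ⟶ S)] (i₀ : J)
    [IsClosedImmersion (cF.π.app i₀ ≫ t.app i₀)] :
    ∃ (k : J), ∀ (i : J) (_ : i ⟶ k), IsClosedImmersion (t.app i : F.obj i ⟶ S) :=
  eventually_of_affine_case F hF t @IsClosedImmersion @IsClosedImmersion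
    (fun _ _ _ => inferInstance)
    (fun G _ hG _ _ hcl _ _ tU i _ hQ => by
      haveI : ∀ (l m) (f : l ⟶ m), IsClosedImmersion (G.map f) := hcl
      haveI := hQ
      exact eventually_isClosedImmersion_of_isAffine G hG tU i)
    i₀ inferInstance

include hF in
/-- Finite morphisms to the base at large stages. -/
theorem eventually_isFinite [∀ (i j : J) (f : i ⟶ j), IsFinite (F.map f)]
    [∀ i, LocallyOfFiniteType (t.app i : F.obj i ⟶ S)] (i₀ : J)
    [IsIntegralHom (cF.π.app i₀ ≫ t.app i₀)] :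
    ∃ (k : J), ∀ (i : J) (_ : i ⟶ k), IsFinite (t.app i : F.obj i ⟶ S) :=
  eventually_of_affine_case F hF t @IsFinite @IsIntegralHom
    (fun _ _ _ => inferInstance)
    (fun G _ hG _ _ hfin _ _ tU i _ hQ => by
      haveI : ∀ (l m) (f : l ⟶ m), IsFinite (G.map f) := hfin
      haveI := hQ
      exact eventually_isFinite_of_isAffine G hG tU i)
    i₀ inferInstance

end GrothLib.LimDesc
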