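import Groth.Agent.Lib.LimDesc.Transfer
import Mathlib.AlgebraicGeometry.Morphisms.FormallyUnramified

/-!
# Descending formally unramified morphisms along limits
-/

set_option autoImplicit false
set_option backward.isDefEq.respectTransparency false
set_option linter.style.haveILetI false
universe u

open CategoryTheory Limits AlgebraicGeometry Polynomial

noncomputable section

namespace GrothLib.LimDesc

variable {I : Type u} [SmallCategory I] [IsCofiltered I] (D : I ⥤ Scheme.{u}) {c : Cone D}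
  (hc : IsLimit c) [∀ (i j : I) (f : i ⟶ j), IsAffineHom (D.map f)] {i₀ : I}
  {X₀ Y₀ : Scheme.{u}} (f₀ : X₀ ⟶ Y₀) (g₀ : Y₀ ⟶ D.obj i₀) {X Y : Scheme.{u}} {f : X ⟶ Y}
  {g : Y ⟶ c.pt} {qY : Y ⟶ Y₀} {qX : X ⟶ X₀}
  (hY : IsPullback qY g g₀ (c.π.app i₀)) (hX : IsPullback qX f f₀ qY)
  [CompactSpace X₀] [QuasiSeparatedSpace X₀] [CompactSpace Y₀] [QuasiSeparatedSpace Y₀]

omit [CompactSpace Y₀] in
include hc hY hX in
/-- Formally unramified morphisms descend to a stage. -/
theorem exists_formallyUnramified [LocallyOfFiniteType f₀] [FormallyUnramified f] :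
    ∃ j : Over i₀, FormallyUnramified ((mapNat D i₀ g₀ (f₀ ≫ g₀) f₀ rfl).app j) := by
  obtain ⟨qW, h1, h2, hW⟩ := exists_isPullback_kernel hY hX
  let aW := pullback.fst f₀ f₀ ≫ f₀ ≫ g₀
  haveI : QuasiCompact f₀ := quasiCompact_of_compactSpace f₀
  haveI : CompactSpace ↥(pullback f₀ f₀) :=
    QuasiCompact.compactSpace_of_compactSpace (pullback.fst f₀ f₀)
  haveI : QuasiSeparatedSpace ↥(pullback f₀ f₀) :=
    quasiSeparatedSpace_of_quasiSeparated (pullback.fst f₀ f₀)
  let Δ := pullback.diagonal f₀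
  haveI : LocallyOfFinitePresentation Δ :=
    DiagGrp.lfp_of_comp_of_lft Δ (pullback.fst f₀ f₀)
      (by rw [pullback.diagonal_fst]; infer_instance) inferInstance
  haveI : LocallyOfFiniteType f := MorphismProperty.of_isPullback (P := @LocallyOfFiniteType) hX inferInstance
  have hΔ : Δ ≫ aW = f₀ ≫ g₀ := by simp [Δ, aW]
  have hdW : IsPullback qX (pullback.diagonal f ≫ pullback.fst f f ≫ f ≫ g) (Δ ≫ aW)
      (c.π.app i₀) := by
    rw [pullback.diagonal_fst_assoc, hΔ]
    exact hX.paste_vert hY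
  have hsq : IsPullback qX (pullback.diagonal f) Δ qW := by
    refine IsPullback.of_bot hdW ?_ hW
    apply pullback.hom_ext
    · simp [Δ, h1]
    · simp [Δ, h2]
  haveI : IsOpenImmersion (pullback.diagonal f) := inferInstance
  obtain ⟨j, hj⟩ := exists_isOpenImmersion D hc Δ aW hW hsq
  refine ⟨j, ?_⟩
  let N := (mapNat D i₀ g₀ (f₀ ≫ g₀) f₀ rfl).app j
  obtain ⟨m, m1, m2, hm⟩ := exists_isPullback_kernel (IsPullback.of_hasPullback g₀ (D.map j.hom))
    (isPullback_mapNat D i₀ g₀ (f₀ ≫ g₀) f₀ rfl j)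
  let e : pullback (Δ ≫ aW) (D.map j.hom) ≅ pullback (f₀ ≫ g₀) (D.map j.hom) :=
    pullback.congrHom hΔ rfl
  have he : (mapNat D i₀ aW (Δ ≫ aW) Δ rfl).app j =
      e.hom ≫ pullback.diagonal N ≫ hm.isoPullback.hom := by
    apply pullback.hom_ext
    · rw [mapNat_fst, Category.assoc, Category.assoc, IsPullback.isoPullback_hom_fst]
      apply pullback.hom_ext
      · simp [Δ, e, N, m1]
      · simp [Δ, e, N, m2]
    · rw [mapNat_snd, Category.assoc, Category.assoc, IsPullback.isoPullback_hom_snd,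
        show pullback.diagonal N ≫ pullback.fst N N ≫ N ≫ pullback.snd g₀ (D.map j.hom) =
          N ≫ pullback.snd g₀ (D.map j.hom) from pullback.diagonal_fst_assoc _ _,
        mapNat_snd D i₀ g₀ (f₀ ≫ g₀) f₀ rfl j]
      simp [e]
  rw [he] at hj
  haveI : IsOpenImmersion (pullback.diagonal N) :=
    (MorphismProperty.cancel_right_of_respectsIso @IsOpenImmersion _ hm.isoPullback.hom).mp
      ((MorphismProperty.cancel_left_of_respectsIso @IsOpenImmersion e.hom _).mp hj)
  change FormallyUnramified N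
  infer_instance

end GrothLib.LimDesc
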