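import Groth.Agent.Lib.LimDesc.Single

/-!
# Descending properties of a morphism of schemes over a stage

The statements for `f₀ : X₀ ⟶ Y₀` over `D i₀` follow from those of `Single`, applied to the diagram
of base changes of `Y₀`.
-/

set_option autoImplicit false
set_option backward.isDefEq.respectTransparency false
set_option linter.style.haveILetI false
universe u

open CategoryTheory Limits AlgebraicGeometry

noncomputable section

namespace GrothLib.LimDesc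

variable {I : Type u} [SmallCategory I] [IsCofiltered I] (D : I ⥤ Scheme.{u}) {c : Cone D}
  (hc : IsLimit c) [∀ (i j : I) (f : i ⟶ j), IsAffineHom (D.map f)] {i₀ : I}
  {X₀ Y₀ : Scheme.{u}} (f₀ : X₀ ⟶ Y₀) (g₀ : Y₀ ⟶ D.obj i₀) {X Y : Scheme.{u}} {f : X ⟶ Y}
  {g : Y ⟶ c.pt} {qY : Y ⟶ Y₀} {qX : X ⟶ X₀}
  (hY : IsPullback qY g g₀ (c.π.app i₀)) (hX : IsPullback qX f f₀ qY)

/-- The base change of `f₀` to the top stage. -/
abbrev topMap : pullback (f₀ ≫ g₀) (D.map (𝟙 i₀)) ⟶ (diag D i₀ g₀).obj (Over.mk (𝟙 i₀)) :=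
  (mapNat D i₀ g₀ (f₀ ≫ g₀) f₀ rfl).app (Over.mk (𝟙 i₀))

omit [IsCofiltered I] [∀ (i j : I) (f : i ⟶ j), IsAffineHom (D.map f)] in
/-- Transfer from the diagram of base changes of `Y₀` back to the stages of `f₀`. -/
theorem of_topMap (P : MorphismProperty Scheme.{u}) [P.RespectsIso]
    (H : ∃ j : Over (Over.mk (𝟙 i₀) : Over i₀),
      P (pullback.snd (topMap D f₀ g₀) ((diag D i₀ g₀).map j.hom))) :
    ∃ j : Over i₀, P ((mapNat D i₀ g₀ (f₀ ≫ g₀) f₀ rfl).app j) := by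
  obtain ⟨j, hj⟩ := H
  have h := isPullback_mapNat_map D i₀ g₀ (f₀ ≫ g₀) f₀ rfl j.hom
  refine ⟨j.left, ?_⟩
  rw [← h.isoPullback_hom_snd]
  exact (P.cancel_left_of_respectsIso _ _).mpr hj

include hY hX in
omit [IsCofiltered I] [∀ (i j : I) (f : i ⟶ j), IsAffineHom (D.map f)] in
/-- The base change of the top stage to the limit. -/
theorem isPullback_topMap :
    IsPullback ((cone D i₀ (f₀ ≫ g₀) (hX.paste_vert hY)).π.app (Over.mk (𝟙 i₀))) f (topMap D f₀ g₀)
      ((cone D i₀ g₀ hY).π.app (Over.mk (𝟙 i₀))) :=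
  isPullback_π D i₀ g₀ (f₀ ≫ g₀) hY f₀ rfl (hX.paste_vert hY) f hX.w.symm rfl _

section

variable [CompactSpace X₀] [QuasiSeparatedSpace X₀] [CompactSpace Y₀] [QuasiSeparatedSpace Y₀]

omit [IsCofiltered I] [QuasiSeparatedSpace X₀] [CompactSpace Y₀] [QuasiSeparatedSpace Y₀] in
lemma compactSpace_top : CompactSpace ↥(pullback (f₀ ≫ g₀) (D.map (𝟙 i₀))) :=
  compactSpace_obj D i₀ (f₀ ≫ g₀) (Over.mk (𝟙 i₀))

omit [IsCofiltered I] [CompactSpace X₀] [CompactSpace Y₀] [QuasiSeparatedSpace Y₀] in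
lemma quasiSeparatedSpace_top : QuasiSeparatedSpace ↥(pullback (f₀ ≫ g₀) (D.map (𝟙 i₀))) :=
  quasiSeparatedSpace_obj D i₀ (f₀ ≫ g₀) (Over.mk (𝟙 i₀))

include hc hY hX in
/-- Affine morphisms descend to a stage. -/
theorem exists_isAffineHom [IsAffineHom f] :
    ∃ j : Over i₀, IsAffineHom ((mapNat D i₀ g₀ (f₀ ≫ g₀) f₀ rfl).app j) := by
  haveI := compactSpace_top D f₀ g₀
  haveI := quasiSeparatedSpace_top D f₀ g₀
  exact of_topMap D f₀ g₀ @IsAffineHom (exists_isAffineHom_snd (diag D i₀ g₀)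
    (isLimitCone D i₀ g₀ hY hc) (topMap D f₀ g₀) (isPullback_topMap D f₀ g₀ hY hX))

include hc hY hX in
/-- Quasi-affine morphisms descend to a stage. -/
theorem exists_isQuasiAffine (hf : Mor2.IsQuasiAffine f) :
    ∃ j : Over i₀, Mor2.IsQuasiAffine ((mapNat D i₀ g₀ (f₀ ≫ g₀) f₀ rfl).app j) := by
  haveI := compactSpace_top D f₀ g₀
  haveI := quasiSeparatedSpace_top D f₀ g₀
  obtain ⟨j, hj⟩ := exists_indQA_snd (diag D i₀ g₀)
    (isLimitCone D i₀ g₀ hY hc) (topMap D f₀ g₀) (isPullback_topMap D f₀ g₀ hY hX) hf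
  have h := isPullback_mapNat_map D i₀ g₀ (f₀ ≫ g₀) f₀ rfl j.hom
  let N := (mapNat D i₀ g₀ (f₀ ≫ g₀) f₀ rfl).app j.left
  haveI : QuasiCompact N := quasiCompact_of_compactSpace N
  refine ⟨j.left, inferInstance, fun V hV => ?_⟩
  refine (IndQA.indQA_iff N).mp ?_ V hV _ le_rfl (N.isCompact_preimage hV.isCompact)
  rw [show N = h.isoPullback.hom ≫ _ from h.isoPullback_hom_snd.symm]
  exact IndQA.indQA_comp _ _ (IndQA.indQA_of_isImmersion _) hj

include hc hY hX in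
/-- Open immersions descend to a stage. -/
theorem exists_isOpenImmersion [LocallyOfFinitePresentation f₀] [IsOpenImmersion f] :
    ∃ j : Over i₀, IsOpenImmersion ((mapNat D i₀ g₀ (f₀ ≫ g₀) f₀ rfl).app j) := by
  haveI := compactSpace_top D f₀ g₀
  haveI := quasiSeparatedSpace_top D f₀ g₀
  haveI : LocallyOfFinitePresentation (topMap D f₀ g₀) :=
    MorphismProperty.of_isPullback (P := @LocallyOfFinitePresentation)
      (isPullback_mapNat D i₀ g₀ (f₀ ≫ g₀) f₀ rfl (Over.mk (𝟙 i₀))) inferInstance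
  exact of_topMap D f₀ g₀ @IsOpenImmersion (exists_isOpenImmersion_snd (diag D i₀ g₀)
    (isLimitCone D i₀ g₀ hY hc) (topMap D f₀ g₀) (isPullback_topMap D f₀ g₀ hY hX))

include hc hY hX in
/-- Locally quasi-finite morphisms descend to a stage. -/
theorem exists_locallyQuasiFinite [LocallyOfFiniteType f₀] [LocallyQuasiFinite f] :
    ∃ j : Over i₀, LocallyQuasiFinite ((mapNat D i₀ g₀ (f₀ ≫ g₀) f₀ rfl).app j) := by
  haveI := compactSpace_top D f₀ g₀
  haveI := quasiSeparatedSpace_top D f₀ g₀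
  haveI : LocallyOfFiniteType (topMap D f₀ g₀) :=
    MorphismProperty.of_isPullback (P := @LocallyOfFiniteType)
      (isPullback_mapNat D i₀ g₀ (f₀ ≫ g₀) f₀ rfl (Over.mk (𝟙 i₀))) inferInstance
  exact of_topMap D f₀ g₀ @LocallyQuasiFinite (exists_locallyQuasiFinite_snd (diag D i₀ g₀)
    (isLimitCone D i₀ g₀ hY hc) (topMap D f₀ g₀) (isPullback_topMap D f₀ g₀ hY hX))

end

end GrothLib.LimDesc
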