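import Groth.Agent.Lib.LimDesc.Inj
import Groth.Agent.Lib.LimDesc.Transfer
import Groth.Agent.Lib.LimDesc.Finite
import Groth.Agent.Lib.LimSmooth.Reduction

/-!
# Descent along limits of properties local on the target, over a quasi-compact target
-/

set_option autoImplicit false
set_option backward.isDefEq.respectTransparency false
set_option linter.style.haveILetI false
universe u

open CategoryTheory Limits AlgebraicGeometry TopologicalSpace

noncomputable section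

namespace GrothLib.LimDesc

/-- A base change along a composite is an iterated base change. -/
theorem exists_isPullback_of_comp {A B B' C A' A'' : Scheme.{u}} {h : A ⟶ B} {s : B' ⟶ B} {r : C ⟶ B'}
    {q : A'' ⟶ A} {p : A'' ⟶ C} {q' : A' ⟶ A} {h' : A' ⟶ B'}
    (H : IsPullback q p h (r ≫ s)) (H' : IsPullback q' h' h s) :
    ∃ q'' : A'' ⟶ A', q'' ≫ q' = q ∧ IsPullback q'' p h' r := by
  obtain ⟨l, hl₁, hl₂⟩ := H'.exists_lift q (p ≫ r) (by rw [Category.assoc]; exact H.w)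
  exact ⟨l, hl₁, IsPullback.of_right (hl₁.symm ▸ H) hl₂ H'⟩

variable {I : Type u} [SmallCategory I] [IsCofiltered I] (D : I ⥤ Scheme.{u}) {c : Cone D}
  (hc : IsLimit c) [∀ (i j : I) (f : i ⟶ j), IsAffineHom (D.map f)] {i₀ : I}
  {X₀ Y₀ : Scheme.{u}} (f₀ : X₀ ⟶ Y₀) (g₀ : Y₀ ⟶ D.obj i₀) {X Y : Scheme.{u}} {f : X ⟶ Y}
  {g : Y ⟶ c.pt} {qY : Y ⟶ Y₀} {qX : X ⟶ X₀}
  (hY : IsPullback qY g g₀ (c.π.app i₀)) (hX : IsPullback qX f f₀ qY)
  [CompactSpace Y₀] [QuasiCompact f₀] [QuasiSeparated f₀]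

include hY hX in
/-- A property local on the target descends to a stage as soon as it does over every affine open of
the target. -/
theorem exists_stage_of_affine_target (P : MorphismProperty Scheme.{u}) [P.IsStableUnderBaseChange]
    [IsZariskiLocalAtTarget P] (hf : P f)
    (H : ∀ {X₁ U : Scheme.{u}} [IsAffine U] [CompactSpace X₁] [QuasiSeparatedSpace X₁]
      (f₁ : X₁ ⟶ U) (o : U ⟶ Y₀) [IsOpenImmersion o] {q : X₁ ⟶ X₀}, IsPullback q f₁ f₀ o →
      ∀ {X' Y' : Scheme.{u}} {f' : X' ⟶ Y'} {g' : Y' ⟶ c.pt} {qY' : Y' ⟶ U} {qX' : X' ⟶ X₁},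
        IsPullback qY' g' (o ≫ g₀) (c.π.app i₀) → IsPullback qX' f' f₁ qY' → P f' →
          ∃ j : Over i₀, P ((mapNat D i₀ (o ≫ g₀) (f₁ ≫ o ≫ g₀) f₁ rfl).app j)) :
    ∃ j : Over i₀, P ((mapNat D i₀ g₀ (f₀ ≫ g₀) f₀ rfl).app j) := by
  classical
  obtain ⟨s, hs⟩ := isCompact_univ.elim_finite_subcover
    (fun U : Y₀.affineOpens => (U.1 : Set Y₀)) (fun U => U.1.2) (fun x _ => by
      obtain ⟨U, hU, hxU, -⟩ := exists_isAffineOpen_mem_and_subset (Opens.mem_top x)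
      exact Set.mem_iUnion.mpr ⟨⟨U, hU⟩, hxU⟩)
  have hloc : ∀ U : Y₀.affineOpens, ∃ j : Over i₀,
      P ((mapNat D i₀ (U.1.ι ≫ g₀) ((f₀ ∣_ U.1) ≫ U.1.ι ≫ g₀) (f₀ ∣_ U.1) rfl).app j) := by
    intro U
    haveI : IsAffine U.1.toScheme := U.2
    haveI : QuasiCompact (f₀ ∣_ U.1) := IsZariskiLocalAtTarget.restrict ‹QuasiCompact f₀› U.1
    haveI : QuasiSeparated (f₀ ∣_ U.1) := IsZariskiLocalAtTarget.restrict ‹QuasiSeparated f₀› U.1
    haveI : CompactSpace ↥(f₀ ⁻¹ᵁ U.1).toScheme :=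
      QuasiCompact.compactSpace_of_compactSpace (f₀ ∣_ U.1)
    haveI : QuasiSeparatedSpace ↥(f₀ ⁻¹ᵁ U.1).toScheme :=
      quasiSeparatedSpace_of_quasiSeparated (f₀ ∣_ U.1)
    have hU : IsPullback (f₀ ⁻¹ᵁ U.1).ι (f₀ ∣_ U.1) f₀ U.1.ι := (isPullback_morphismRestrict f₀ U.1).flip
    have h1 : IsPullback (pullback.fst f (pullback.fst qY U.1.ι) ≫ qX)
        (pullback.snd f (pullback.fst qY U.1.ι)) f₀ (pullback.snd qY U.1.ι ≫ U.1.ι) :=
      pullback.condition (f := qY) (g := U.1.ι) ▸ (IsPullback.of_hasPullback _ _).paste_horiz hX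
    obtain ⟨q'', -, hq''⟩ := exists_isPullback_of_comp h1 hU
    exact H (f₀ ∣_ U.1) U.1.ι hU
      ((IsPullback.of_hasPullback qY U.1.ι).flip.paste_vert hY) hq''
      (P.pullback_snd f (pullback.fst qY U.1.ι) hf)
  choose J hJ using hloc
  obtain ⟨k, hk⟩ := IsCofiltered.inf_objs_exists (s.image J)
  refine ⟨k, ?_⟩
  let N := (mapNat D i₀ g₀ (f₀ ≫ g₀) f₀ rfl).app k
  let pY : (diag D i₀ g₀).obj k ⟶ Y₀ := pullback.fst g₀ (D.map k.hom)
  have hcov : ⨆ U : {U // U ∈ s}, pY ⁻¹ᵁ U.1.1 = ⊤ := by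
    refine top_le_iff.mp fun x _ => ?_
    obtain ⟨U, hUs, hx⟩ := Set.mem_iUnion₂.mp (hs (Set.mem_univ (pY x)))
    exact Opens.mem_iSup.mpr ⟨⟨U, hUs⟩, hx⟩
  rw [IsZariskiLocalAtTarget.iff_of_iSup_eq_top (P := P) _ hcov]
  rintro ⟨U, hUs⟩
  obtain ⟨φ⟩ := hk (Finset.mem_image_of_mem J hUs)
  let gU := U.1.ι ≫ g₀
  let NU := mapNat D i₀ gU ((f₀ ∣_ U.1) ≫ gU) (f₀ ∣_ U.1) rfl
  have hNU : P (NU.app k) :=
    MorphismProperty.of_isPullback (isPullback_mapNat_map D i₀ gU _ (f₀ ∣_ U.1) rfl φ) (hJ U)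
  let V := pY ⁻¹ᵁ U.1
  have hN : IsPullback ((N ⁻¹ᵁ V).ι ≫ pullback.fst (f₀ ≫ g₀) (D.map k.hom)) (N ∣_ V) f₀
      ((pY ∣_ U.1) ≫ U.1.ι) :=
    (morphismRestrict_ι pY U.1).symm ▸ (isPullback_morphismRestrict N V).flip.paste_horiz
      (isPullback_mapNat D i₀ g₀ (f₀ ≫ g₀) f₀ rfl k)
  obtain ⟨q₁, -, hq₁⟩ := exists_isPullback_of_comp hN (isPullback_morphismRestrict f₀ U.1).flip
  let m : V.toScheme ⟶ (diag D i₀ gU).obj k := pullback.lift (pY ∣_ U.1)
    (V.ι ≫ pullback.snd g₀ (D.map k.hom))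
    (by rw [Category.assoc, ← pullback.condition, ← Category.assoc, morphismRestrict_ι, Category.assoc])
  have hm : m ≫ pullback.fst gU (D.map k.hom) = pY ∣_ U.1 := pullback.lift_fst _ _ _
  rw [← hm] at hq₁
  obtain ⟨q₂, -, hq₂⟩ := exists_isPullback_of_comp hq₁
    (isPullback_mapNat D i₀ gU _ (f₀ ∣_ U.1) rfl k)
  exact MorphismProperty.of_isPullback hq₂ hNU

include hc hY hX in
/-- Separated morphisms descend to a stage, over a quasi-compact target. -/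
theorem exists_isSeparated_of_compactSpace [LocallyOfFiniteType f₀] [IsSeparated f] :
    ∃ j : Over i₀, IsSeparated ((mapNat D i₀ g₀ (f₀ ≫ g₀) f₀ rfl).app j) :=
  exists_stage_of_affine_target D f₀ g₀ hY hX @IsSeparated inferInstance
    fun {_ _} _ _ _ f₁ o _ {_} h {_ _ _ _ _ _} hY' hX' hf' => by
      haveI : LocallyOfFiniteType f₁ := MorphismProperty.of_isPullback h ‹LocallyOfFiniteType f₀›
      haveI := hf'
      exact exists_isSeparated D hc f₁ (o ≫ g₀) hY' hX'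

include hc hY hX in
/-- Isomorphisms descend to a stage, over a quasi-compact target. -/
theorem exists_isIso_of_compactSpace [LocallyOfFinitePresentation f₀] [IsIso f] :
    ∃ j : Over i₀, IsIso ((mapNat D i₀ g₀ (f₀ ≫ g₀) f₀ rfl).app j) :=
  exists_stage_of_affine_target D f₀ g₀ hY hX (MorphismProperty.isomorphisms Scheme.{u})
    (inferInstanceAs (IsIso f)) fun {_ _} _ _ _ f₁ o _ {_} h {_ _ _ _ _ _} hY' hX' hf' => by
      haveI : LocallyOfFinitePresentation f₁ :=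
        MorphismProperty.of_isPullback h ‹LocallyOfFinitePresentation f₀›
      haveI := (MorphismProperty.isomorphisms.iff _).mp hf'
      obtain ⟨j₁, h₁⟩ := exists_isOpenImmersion D hc f₁ (o ≫ g₀) hY' hX'
      obtain ⟨j₂, h₂⟩ := exists_surjective D hc f₁ (o ≫ g₀) hY' hX'
      obtain ⟨k, φ₁, φ₂, -⟩ : ∃ (k : Over i₀) (φ₁ : k ⟶ j₁) (φ₂ : k ⟶ j₂), True :=
        ⟨IsCofiltered.min j₁ j₂, IsCofiltered.minToLeft _ _, IsCofiltered.minToRight _ _, trivial⟩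
      let N := mapNat D i₀ (o ≫ g₀) (f₁ ≫ o ≫ g₀) f₁ rfl
      haveI : IsOpenImmersion (N.app k) := MorphismProperty.of_isPullback
        (isPullback_mapNat_map D i₀ (o ≫ g₀) _ f₁ rfl φ₁) h₁
      haveI : Surjective (N.app k) := MorphismProperty.of_isPullback
        (isPullback_mapNat_map D i₀ (o ≫ g₀) _ f₁ rfl φ₂) h₂
      haveI : Epi (N.app k).base := (TopCat.epi_iff_surjective _).mpr (N.app k).surjective
      exact ⟨k, (MorphismProperty.isomorphisms.iff _).mpr (IsOpenImmersion.isIso (N.app k))⟩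

end GrothLib.LimDesc
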