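import Groth.Agent.Lib.LimDesc.Basic
import Groth.Agent.Lib.DiagGrp.KernelFP
import Mathlib.AlgebraicGeometry.Morphisms.UniversallyInjective
import Mathlib.AlgebraicGeometry.PullbackCarrier

/-!
# Descending monomorphisms, surjections and universally injective morphisms along limits
-/

set_option autoImplicit false
set_option backward.isDefEq.respectTransparency false
set_option linter.style.haveILetI false
universe u

open CategoryTheory Limits AlgebraicGeometry Topology

noncomputable section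

namespace GrothLib.LimDesc

section Constructible

variable {J : Type u} [SmallCategory J] [IsCofiltered J] (F : J ⥤ Scheme.{u}) (cF : Cone F)
  (hF : IsLimit cF) [∀ (i j : J) (f : i ⟶ j), IsAffineHom (F.map f)]

include hF in
/-- A constructible set with empty preimage in the limit has empty preimage at some stage. -/
theorem exists_preimage_eq_empty (i : J) [CompactSpace ↥(F.obj i)] [QuasiSeparatedSpace ↥(F.obj i)]
    (T : Set (F.obj i)) (hT : IsConstructible T) (h : cF.π.app i ⁻¹' T = ∅) :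
    ∃ (j : J) (φ : j ⟶ i), F.map φ ⁻¹' T = ∅ := by
  let b : (F.obj i).affineOpens → Set (F.obj i) := fun U => (U.1 : Set (F.obj i))
  have : Nonempty (F.obj i).affineOpens := ⟨⟨⊥, isAffineOpen_bot _⟩⟩
  have hb : TopologicalSpace.IsTopologicalBasis (Set.range b) := by
    have e : Set.range b = SetLike.coe '' (F.obj i).affineOpens := by
      ext s
      constructor
      · rintro ⟨U, rfl⟩; exact ⟨U.1, U.2, rfl⟩
      · rintro ⟨U, hU, rfl⟩; exact ⟨⟨U, hU⟩, rfl⟩
    rw [e]
    exact (F.obj i).isBasis_affineOpens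
  revert h
  induction T, hT using Topology.IsConstructible.induction_of_isTopologicalBasis b hb
    (fun U => U.2.isCompact) with
  | sdiff U s hs =>
    intro h
    let V : (F.obj i).Opens := ⨆ j ∈ s, (j : (F.obj i).affineOpens).1
    have hV : (V : Set (F.obj i)) = ⋃ j ∈ s, b j := by
      simp [V, b]
    have hle : cF.π.app i ⁻¹ᵁ U.1 ≤ cF.π.app i ⁻¹ᵁ V := fun x hx => by
      by_contra hxV
      refine Set.eq_empty_iff_forall_notMem.mp h x ⟨hx, ?_⟩
      rw [← hV]
      exact hxV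
    obtain ⟨j, φ, hj⟩ := exists_map_preimage_le_map_preimage F cF hF U.2.isCompact hle
    refine ⟨j, φ, Set.eq_empty_iff_forall_notMem.mpr fun x hx => ?_⟩
    refine hx.2 ?_
    rw [← hV]
    exact hj hx.1
  | union s hs t ht ihs iht =>
    intro h
    simp only [Set.preimage_union, Set.union_empty_iff] at h
    obtain ⟨j₁, φ₁, h₁⟩ := ihs h.1
    obtain ⟨j₂, φ₂, h₂⟩ := iht h.2
    obtain ⟨k, a₁, a₂, e⟩ := IsCofiltered.cospan φ₁ φ₂
    refine ⟨k, a₁ ≫ φ₁, Set.eq_empty_iff_forall_notMem.mpr fun x hx => ?_⟩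
    rcases hx with hx | hx
    · rw [F.map_comp, Scheme.Hom.comp_apply] at hx
      exact Set.eq_empty_iff_forall_notMem.mp h₁ _ hx
    · rw [e, F.map_comp, Scheme.Hom.comp_apply] at hx
      exact Set.eq_empty_iff_forall_notMem.mp h₂ _ hx

end Constructible

section Kernel

variable {X₀ Y₀ S₀ X Y T : Scheme.{u}} {f₀ : X₀ ⟶ Y₀} {g₀ : Y₀ ⟶ S₀} {t : T ⟶ S₀} {f : X ⟶ Y}
  {g : Y ⟶ T} {qY : Y ⟶ Y₀} {qX : X ⟶ X₀}

/-- The fibre square of a base change is the base change of the fibre square. -/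
theorem exists_isPullback_kernel (hY : IsPullback qY g g₀ t) (hX : IsPullback qX f f₀ qY) :
    ∃ qW : pullback f f ⟶ pullback f₀ f₀,
      qW ≫ pullback.fst f₀ f₀ = pullback.fst f f ≫ qX ∧
      qW ≫ pullback.snd f₀ f₀ = pullback.snd f f ≫ qX ∧
      IsPullback qW (pullback.fst f f ≫ f ≫ g) (pullback.fst f₀ f₀ ≫ f₀ ≫ g₀) t := by
  let qW : pullback f f ⟶ pullback f₀ f₀ :=
    pullback.lift (pullback.fst f f ≫ qX) (pullback.snd f f ≫ qX)
      (by rw [Category.assoc, Category.assoc, hX.w, pullback.condition_assoc])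
  refine ⟨qW, pullback.lift_fst _ _ _, pullback.lift_snd _ _ _, ?_⟩
  have h1 : IsPullback (pullback.snd f f ≫ qX) (pullback.fst f f) f₀ (f ≫ qY) :=
    ((IsPullback.of_hasPullback f f).flip.paste_horiz hX)
  have h2 : IsPullback qW (pullback.fst f f) (pullback.fst f₀ f₀) qX := by
    refine IsPullback.of_right ?_ (pullback.lift_fst _ _ _) (IsPullback.of_hasPullback f₀ f₀).flip
    rw [pullback.lift_snd, hX.w]
    exact h1
  exact h2.paste_vert (hX.paste_vert hY)

end Kernel

variable {I : Type u} [SmallCategory I] [IsCofiltered I] (D : I ⥤ Scheme.{u}) {c : Cone D}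
  (hc : IsLimit c) [∀ (i j : I) (f : i ⟶ j), IsAffineHom (D.map f)] {i₀ : I}
  {X₀ Y₀ : Scheme.{u}} (f₀ : X₀ ⟶ Y₀) (g₀ : Y₀ ⟶ D.obj i₀) {X Y : Scheme.{u}} {f : X ⟶ Y}
  {g : Y ⟶ c.pt} {qY : Y ⟶ Y₀} {qX : X ⟶ X₀}
  (hY : IsPullback qY g g₀ (c.π.app i₀)) (hX : IsPullback qX f f₀ qY)

include hc hY hX in
/-- Monomorphisms descend to a stage. -/
theorem exists_mono [CompactSpace X₀] [QuasiSeparatedSpace Y₀] [LocallyOfFiniteType f₀] [Mono f] :
    ∃ j : Over i₀, Mono ((mapNat D i₀ g₀ (f₀ ≫ g₀) f₀ rfl).app j) := by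
  obtain ⟨qW, h1, h2, hW⟩ := exists_isPullback_kernel hY hX
  let aW := pullback.fst f₀ f₀ ≫ f₀ ≫ g₀
  haveI : QuasiCompact f₀ := quasiCompact_of_compactSpace f₀
  haveI : CompactSpace ↥(pullback f₀ f₀) :=
    QuasiCompact.compactSpace_of_compactSpace (pullback.fst f₀ f₀)
  let t : diag D i₀ aW ⟶ (Functor.const (Over i₀)).obj Y₀ :=
    { app := fun j => pullback.fst aW (D.map j.hom) ≫ pullback.fst f₀ f₀ ≫ f₀
      naturality := fun j k φ => by
        refine (map_fst_assoc D i₀ aW φ _).trans ?_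
        simp }
  let top : Over i₀ := Over.mk (𝟙 i₀)
  obtain ⟨k, φ, hk⟩ := Scheme.exists_hom_comp_eq_comp_of_locallyOfFiniteType (diag D i₀ aW) t f₀
    (cone D i₀ aW hW) (isLimitCone D i₀ aW hW hc) (i := top)
    (pullback.fst aW (D.map top.hom) ≫ pullback.fst f₀ f₀)
    (pullback.fst aW (D.map top.hom) ≫ pullback.snd f₀ f₀)
    (Category.assoc _ _ _).symm
    (by rw [Category.assoc, ← pullback.condition])
    (by
      simp only [π_fst_assoc, h1, h2]
      exact congrArg (· ≫ qX) (fst_eq_snd_of_mono_eq f))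
  rw [map_fst_assoc, map_fst_assoc] at hk
  refine ⟨k, ⟨fun {T} u v huv => ?_⟩⟩
  have e1 := congrArg (· ≫ pullback.fst g₀ (D.map k.hom)) huv
  have e2 := congrArg (· ≫ pullback.snd g₀ (D.map k.hom)) huv
  simp only [Category.assoc, mapNat_fst, mapNat_snd] at e1 e2
  apply pullback.hom_ext
  · let w : T ⟶ pullback f₀ f₀ := pullback.lift (u ≫ pullback.fst _ _) (v ≫ pullback.fst _ _)
      (by rw [Category.assoc, Category.assoc]; exact e1)
    let w' : T ⟶ pullback aW (D.map k.hom) := pullback.lift w (u ≫ pullback.snd _ _) (by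
      rw [pullback.lift_fst_assoc, Category.assoc, Category.assoc, pullback.condition])
    have := congrArg (w' ≫ ·) hk
    simpa [w', w] using this
  · exact e2

include hc hY hX in
/-- Surjectivity descends to a stage. -/
theorem exists_surjective [CompactSpace X₀] [CompactSpace Y₀] [QuasiSeparatedSpace Y₀]
    [LocallyOfFinitePresentation f₀] [Surjective f] :
    ∃ j : Over i₀, Surjective ((mapNat D i₀ g₀ (f₀ ≫ g₀) f₀ rfl).app j) := by
  let N := mapNat D i₀ g₀ (f₀ ≫ g₀) f₀ rfl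
  let top : Over i₀ := Over.mk (𝟙 i₀)
  let hX' := hX.paste_vert hY
  haveI : QuasiCompact f₀ := quasiCompact_of_compactSpace f₀
  haveI : LocallyOfFinitePresentation (N.app top) :=
    MorphismProperty.of_isPullback (P := @LocallyOfFinitePresentation)
      (isPullback_mapNat D i₀ g₀ (f₀ ≫ g₀) f₀ rfl top) inferInstance
  haveI : QuasiCompact (N.app top) :=
    MorphismProperty.of_isPullback (P := @QuasiCompact)
      (isPullback_mapNat D i₀ g₀ (f₀ ≫ g₀) f₀ rfl top) inferInstance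
  let T : Set ((diag D i₀ g₀).obj top) := (Set.range (N.app top))ᶜ
  have hT : IsConstructible T := by
    refine IsConstructible.compl ?_
    rw [← Set.image_univ]
    exact (N.app top).isConstructible_image IsConstructible.univ
  have hsq := isPullback_π D i₀ g₀ (f₀ ≫ g₀) hY f₀ rfl hX' f hX.w.symm rfl top
  have h : (cone D i₀ g₀ hY).π.app top ⁻¹' T = ∅ := by
    refine Set.eq_empty_iff_forall_notMem.mpr fun y hy => hy ?_
    obtain ⟨x, rfl⟩ := Surjective.surj (f := f) y
    refine ⟨(cone D i₀ (f₀ ≫ g₀) hX').π.app top x, ?_⟩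
    exact congr($(hsq.w).base x)
  obtain ⟨j, φ, hj⟩ := exists_preimage_eq_empty (diag D i₀ g₀) _ (isLimitCone D i₀ g₀ hY hc) top T
    hT h
  refine ⟨j, ⟨fun y => ?_⟩⟩
  have hy : (diag D i₀ g₀).map φ y ∈ Set.range (N.app top) :=
    not_not.mp fun hy => Set.eq_empty_iff_forall_notMem.mp hj y hy
  obtain ⟨x, hx⟩ := hy
  obtain ⟨p, -, hp⟩ := Scheme.exists_preimage_of_isPullback
    (isPullback_mapNat_map D i₀ g₀ (f₀ ≫ g₀) f₀ rfl φ) x y hx
  exact ⟨p, hp⟩

include hc hY hX in
/-- Universal injectivity descends to a stage. -/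
theorem exists_universallyInjective [CompactSpace X₀] [QuasiSeparatedSpace X₀]
    [QuasiSeparatedSpace Y₀] [LocallyOfFiniteType f₀] [UniversallyInjective f] :
    ∃ j : Over i₀, UniversallyInjective ((mapNat D i₀ g₀ (f₀ ≫ g₀) f₀ rfl).app j) := by
  obtain ⟨qW, h1, h2, hW⟩ := exists_isPullback_kernel hY hX
  let aW := pullback.fst f₀ f₀ ≫ f₀ ≫ g₀
  haveI : QuasiCompact f₀ := quasiCompact_of_compactSpace f₀
  haveI : CompactSpace ↥(pullback f₀ f₀) :=
    QuasiCompact.compactSpace_of_compactSpace (pullback.fst f₀ f₀)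
  haveI : QuasiSeparatedSpace ↥(pullback f₀ f₀) :=
    quasiSeparatedSpace_of_quasiSeparated (pullback.fst f₀ f₀)
  let Δ := pullback.diagonal f₀
  haveI : LocallyOfFinitePresentation Δ :=
    DiagGrp.lfp_of_comp_of_lft Δ (pullback.fst f₀ f₀)
      (by rw [pullback.diagonal_fst]; infer_instance) inferInstance
  haveI : Surjective (pullback.diagonal f) := (UniversallyInjective.iff_diagonal f).mp inferInstance
  have hΔ : Δ ≫ aW = f₀ ≫ g₀ := by simp [Δ, aW]
  have hdW : IsPullback qX (pullback.diagonal f ≫ pullback.fst f f ≫ f ≫ g) (Δ ≫ aW)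
      (c.π.app i₀) := by
    rw [pullback.diagonal_fst_assoc, hΔ]
    exact hX.paste_vert hY
  have hsq : IsPullback qX (pullback.diagonal f) Δ qW := by
    refine IsPullback.of_bot hdW ?_ hW
    apply pullback.hom_ext
    · simp [Δ, h1]
    · simp [Δ, h2]
  obtain ⟨j, hj⟩ := exists_surjective D hc Δ aW hW hsq
  refine ⟨j, ?_⟩
  let N := (mapNat D i₀ g₀ (f₀ ≫ g₀) f₀ rfl).app j
  obtain ⟨m, m1, m2, hm⟩ := exists_isPullback_kernel (IsPullback.of_hasPullback g₀ (D.map j.hom))
    (isPullback_mapNat D i₀ g₀ (f₀ ≫ g₀) f₀ rfl j)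
  rw [UniversallyInjective.iff_diagonal]
  refine ⟨fun p => ?_⟩
  obtain ⟨x, hx⟩ := hj.surj (hm.isoPullback.hom p)
  let e : pullback (Δ ≫ aW) (D.map j.hom) ⟶ pullback (f₀ ≫ g₀) (D.map j.hom) :=
    pullback.lift (pullback.fst _ _) (pullback.snd _ _) (by rw [← hΔ]; exact pullback.condition)
  have he : (mapNat D i₀ aW (Δ ≫ aW) Δ rfl).app j = e ≫ pullback.diagonal N ≫ hm.isoPullback.hom := by
    apply pullback.hom_ext
    · rw [mapNat_fst, Category.assoc, Category.assoc, IsPullback.isoPullback_hom_fst]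
      apply pullback.hom_ext
      · simp [Δ, e, N, m1]
      · simp [Δ, e, N, m2]
    · rw [mapNat_snd, Category.assoc, Category.assoc, IsPullback.isoPullback_hom_snd,
        show pullback.diagonal N ≫ pullback.fst N N ≫ N ≫ pullback.snd g₀ (D.map j.hom) =
          N ≫ pullback.snd g₀ (D.map j.hom) from pullback.diagonal_fst_assoc _ _,
        mapNat_snd D i₀ g₀ (f₀ ≫ g₀) f₀ rfl j]
      exact (pullback.lift_snd _ _ _).symm
  refine ⟨e x, hm.isoPullback.hom.homeomorph.injective ?_⟩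
  rw [he, Scheme.Hom.comp_apply, Scheme.Hom.comp_apply] at hx
  exact hx

omit [IsCofiltered I] [∀ (i j : I) (f : i ⟶ j), IsAffineHom (D.map f)] in
/-- The hypotheses of the finite presentation form of the descent statements. -/
theorem fp_setup [CompactSpace ↥(D.obj i₀)] [QuasiSeparatedSpace ↥(D.obj i₀)]
    [LocallyOfFinitePresentation g₀] [QuasiCompact g₀] [QuasiSeparated g₀]
    [LocallyOfFinitePresentation (f₀ ≫ g₀)] [QuasiCompact (f₀ ≫ g₀)] [QuasiSeparated (f₀ ≫ g₀)] :
    CompactSpace X₀ ∧ QuasiSeparatedSpace X₀ ∧ CompactSpace Y₀ ∧ QuasiSeparatedSpace Y₀ ∧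
      LocallyOfFinitePresentation f₀ :=
  ⟨QuasiCompact.compactSpace_of_compactSpace (f₀ ≫ g₀), quasiSeparatedSpace_of_quasiSeparated (f₀ ≫ g₀),
    QuasiCompact.compactSpace_of_compactSpace g₀, quasiSeparatedSpace_of_quasiSeparated g₀,
    DiagGrp.lfp_of_comp_of_lft f₀ g₀ inferInstance inferInstance⟩

end GrothLib.LimDesc
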