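import Groth.Agent.Lib.LimDesc.Local
import Groth.Agent.Lib.LimDescend.Scheme
import Groth.Agent.Lib.ConsLim.LimTop

/-!
# Open and closed immersions over a quasi-compact stage descend; models over one qcqs stage
-/

set_option autoImplicit false
set_option backward.isDefEq.respectTransparency false
universe u

open CategoryTheory Limits AlgebraicGeometry

namespace GrothLib.LimDesc

variable {I : Type u} [SmallCategory I] (D : I ⥤ Scheme.{u}) {c : Cone D}
  [∀ (i j : I) (f : i ⟶ j), IsAffineHom (D.map f)] {i₀ : I}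
  {X₀ Y₀ : Scheme.{u}}

omit [∀ (i j : I) (f : i ⟶ j), IsAffineHom (D.map f)] in
/-- A stage of `a` over the identity gives the pullback form. -/
theorem exists_snd_of_exists_stage (P : MorphismProperty Scheme.{u}) [P.RespectsIso]
    (a : X₀ ⟶ D.obj i₀)
    (H : ∃ j : Over i₀, P ((mapNat D i₀ (𝟙 (D.obj i₀)) (a ≫ 𝟙 _) a rfl).app j)) :
    ∃ (j : I) (φ : j ⟶ i₀), P (pullback.snd a (D.map φ)) := by
  obtain ⟨i, φ, Xi, Yi, fi, gi, pY, pX, hY, hX, h⟩ :=
    exists_stage D i₀ a (𝟙 _) (fun {A B} (f : A ⟶ B) => P f) H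
  refine ⟨i, φ, ?_⟩
  haveI : IsIso gi := MorphismProperty.of_isPullback (P := MorphismProperty.isomorphisms Scheme.{u})
    hY (inferInstanceAs (IsIso (𝟙 (D.obj i₀))))
  have h2 : IsPullback pX (fi ≫ gi) (a ≫ 𝟙 _) (D.map φ) := hX.paste_vert hY
  rw [Category.comp_id] at h2
  have h3 : P (fi ≫ gi) := (P.cancel_right_of_respectsIso fi gi).mpr h
  rw [← h2.isoPullback_inv_snd]
  exact (P.cancel_left_of_respectsIso _ _).mpr h3

omit [∀ (i j : I) (f : i ⟶ j), IsAffineHom (D.map f)] in
/-- A property stable under base change passes from a stage to the limit. -/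
theorem of_stage (P : MorphismProperty Scheme.{u}) [P.IsStableUnderBaseChange] {a : X₀ ⟶ D.obj i₀}
    {j : I} (φ : j ⟶ i₀) (h : P (pullback.snd a (D.map φ))) :
    P (pullback.snd a (c.π.app i₀)) := by
  have h1 : IsPullback (pullback.lift (pullback.fst a (c.π.app i₀))
      (pullback.snd a (c.π.app i₀) ≫ c.π.app j)
      (by rw [Category.assoc, c.w, pullback.condition]) : _ ⟶ pullback a (D.map φ))
      (pullback.snd a (c.π.app i₀)) (pullback.snd a (D.map φ)) (c.π.app j) := by
    refine IsPullback.of_right ?_ (pullback.lift_snd _ _ _) (IsPullback.of_hasPullback a (D.map φ))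
    rw [pullback.lift_fst, c.w]
    exact IsPullback.of_hasPullback _ _
  exact MorphismProperty.of_isPullback h1 h

variable [IsCofiltered I] (hc : IsLimit c) (f₀ : X₀ ⟶ Y₀) (g₀ : Y₀ ⟶ D.obj i₀) {X Y : Scheme.{u}} {f : X ⟶ Y} {g : Y ⟶ c.pt}
  {qY : Y ⟶ Y₀} {qX : X ⟶ X₀}
  (hY : IsPullback qY g g₀ (c.π.app i₀)) (hX : IsPullback qX f f₀ qY)
  [CompactSpace Y₀] [QuasiCompact f₀] [QuasiSeparated f₀]

include hc hY hX in
/-- Open immersions descend to a stage, over a quasi-compact target. -/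
theorem exists_isOpenImmersion_of_compactSpace [LocallyOfFinitePresentation f₀] [IsOpenImmersion f] :
    ∃ j : Over i₀, IsOpenImmersion ((mapNat D i₀ g₀ (f₀ ≫ g₀) f₀ rfl).app j) :=
  exists_stage_of_affine_target D f₀ g₀ hY hX @IsOpenImmersion inferInstance
    fun {_ _} _ _ _ f₁ o _ {_} h {_ _ _ _ _ _} hY' hX' hf' => by
      haveI : LocallyOfFinitePresentation f₁ :=
        MorphismProperty.of_isPullback h ‹LocallyOfFinitePresentation f₀›
      haveI := hf'
      exact exists_isOpenImmersion D hc f₁ (o ≫ g₀) hY' hX'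

include hc hY hX in
/-- Closed immersions descend to a stage, over a quasi-compact target. -/
theorem exists_isClosedImmersion_of_compactSpace [LocallyOfFiniteType f₀] [IsClosedImmersion f] :
    ∃ j : Over i₀, IsClosedImmersion ((mapNat D i₀ g₀ (f₀ ≫ g₀) f₀ rfl).app j) :=
  exists_stage_of_affine_target D f₀ g₀ hY hX @IsClosedImmersion inferInstance
    fun {_ _} _ _ _ f₁ o _ {_} h {_ _ _ _ _ _} hY' hX' hf' => by
      haveI : LocallyOfFiniteType f₁ := MorphismProperty.of_isPullback h ‹LocallyOfFiniteType f₀›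
      haveI := hf'
      exact exists_isClosedImmersion D hc f₁ (o ≫ g₀) hY' hX'

end GrothLib.LimDesc

namespace GrothLib.LimDescend

variable {I : Type u} [SmallCategory I] [IsCofiltered I] (D : I ⥤ Scheme.{u}) (c : Cone D)
  (hc : IsLimit c) [∀ (i j : I) (f : i ⟶ j), IsAffineHom (D.map f)]

include hc in
/-- A finitely presented scheme over the limit descends to a stage above a qcqs one. -/
theorem exists_model_over (i₀ : I) [CompactSpace (D.obj i₀)] [QuasiSeparatedSpace (D.obj i₀)]
    {X : Scheme.{u}} (f : X ⟶ c.pt) [LocallyOfFinitePresentation f] [QuasiCompact f]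
    [QuasiSeparated f] : ∃ (j : I) (_ : j ⟶ i₀), Nonempty (Model D c f j) := by
  haveI : ∀ j : Over i₀, CompactSpace ((Over.forget i₀ ⋙ D).obj j) :=
    fun j => ConsLim.compactSpace_stage D j.hom
  haveI : ∀ j : Over i₀, QuasiSeparatedSpace ((Over.forget i₀ ⋙ D).obj j) :=
    fun j => ConsLim.quasiSeparatedSpace_stage D j.hom
  haveI : ∀ (j k : Over i₀) (φ : j ⟶ k), IsAffineHom ((Over.forget i₀ ⋙ D).map φ) :=
    fun j k φ => inferInstanceAs (IsAffineHom (D.map φ.left))
  haveI : LocallyOfFinitePresentation (f : X ⟶ (c.whisker (Over.forget i₀)).pt) := ‹_›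
  obtain ⟨j, ⟨M⟩⟩ := exists_model (Over.forget i₀ ⋙ D) (c.whisker (Over.forget i₀))
    ((Functor.Initial.isLimitWhiskerEquiv (Over.forget i₀) c).symm hc) f
  haveI := M.lfp; haveI := M.qc; haveI := M.qs
  exact ⟨j.left, j.hom, ⟨⟨M.obj, M.hom, M.proj, M.lfp, M.qc, M.qs, M.isPullback⟩⟩⟩

end GrothLib.LimDescend
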