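import Groth.Agent.Lib.LimDesc.Closed

/-!
# Descending properties that are local on source and target: reduction to the affine case
-/

set_option autoImplicit false
set_option backward.isDefEq.respectTransparency false
set_option linter.style.haveILetI false
universe u

open CategoryTheory Limits AlgebraicGeometry

noncomputable section

namespace GrothLib.LimDesc

/-- The affine case of descending `P` along a limit. -/
def AffineCase (P : MorphismProperty Scheme.{u}) : Prop :=
  ∀ {J : Type u} [SmallCategory J] [IsCofiltered J] (E : J ⥤ Scheme.{u})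
    [∀ (i j : J) (φ : i ⟶ j), IsAffineHom (E.map φ)] (cE : Cone E), IsLimit cE →
    ∀ (j₀ : J) [IsAffine (E.obj j₀)] {U : Scheme.{u}} [IsAffine U] (a' : U ⟶ E.obj j₀)
      [LocallyOfFinitePresentation a'] {X' : Scheme.{u}} {f' : X' ⟶ cE.pt} {q' : X' ⟶ U},
      IsPullback q' f' a' (cE.π.app j₀) → P f' →
        ∃ j : Over j₀, P (pullback.snd a' (E.map j.hom))

variable {I : Type u} [SmallCategory I] [IsCofiltered I] (D : I ⥤ Scheme.{u}) {c : Cone D}
  (hc : IsLimit c) [∀ (i j : I) (f : i ⟶ j), IsAffineHom (D.map f)] {i₀ : I}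
  {X₀ : Scheme.{u}} (a : X₀ ⟶ D.obj i₀)
  {X : Scheme.{u}} {f : X ⟶ c.pt} {qX : X ⟶ X₀} (hX : IsPullback qX f a (c.π.app i₀))

omit [IsCofiltered I] [∀ (i j : I) (f : i ⟶ j), IsAffineHom (D.map f)] in
/-- A property stable under base change passes to later stages. -/
theorem snd_of_hom (P : MorphismProperty Scheme.{u}) [P.IsStableUnderBaseChange] {k j : Over i₀}
    (φ : k ⟶ j) (h : P (pullback.snd a (D.map j.hom))) : P (pullback.snd a (D.map k.hom)) :=
  MorphismProperty.of_isPullback (isPullback_map D i₀ a φ) h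

include hc hX in
/-- Reduction to an affine source over an affine base stage. -/
theorem exists_snd_of_affine_source [IsAffine (D.obj i₀)] [CompactSpace X₀]
    [LocallyOfFinitePresentation a] (P : MorphismProperty Scheme.{u}) [P.IsStableUnderBaseChange]
    [IsZariskiLocalAtSource P] (H : AffineCase P) (hf : P f) :
    ∃ j : Over i₀, P (pullback.snd a (D.map j.hom)) := by
  obtain ⟨s, hs⟩ := isCompact_univ.elim_finite_subcover
    (fun U : X₀.affineOpens => (U.1 : Set X₀)) (fun U => U.1.2) (fun x _ => by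
      have := (iSup_affineOpens_eq_top X₀).ge (Set.mem_univ x)
      simpa using this)
  have hstage : ∀ U : {U // U ∈ s}, ∃ j : Over i₀,
      P (pullback.snd (U.1.1.ι ≫ a) (D.map j.hom)) := by
    intro U
    haveI : IsAffine U.1.1.toScheme := U.1.2
    have h := (IsPullback.of_hasPullback qX U.1.1.ι).flip.paste_vert hX
    exact H D c hc i₀ (U.1.1.ι ≫ a) h (IsZariskiLocalAtSource.comp hf _)
  choose jU hjU using hstage
  obtain ⟨k, -, g, -⟩ := IsCofiltered.wideCospan (I := {U // U ∈ s}) (i := Over.mk (𝟙 i₀))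
    (fun U => (Over.homMk (jU U).hom : jU U ⟶ Over.mk (𝟙 i₀)))
  refine ⟨k, ?_⟩
  let incl := fun U : {U // U ∈ s} => (mapNat D i₀ a (U.1.1.ι ≫ a) U.1.1.ι rfl).app k
  have hoi : ∀ U, IsOpenImmersion (incl U) := fun U =>
    MorphismProperty.of_isPullback (P := @IsOpenImmersion)
      (isPullback_mapNat D i₀ a (U.1.1.ι ≫ a) U.1.1.ι rfl k) inferInstance
  refine (IsZariskiLocalAtSource.iff_of_iSup_eq_top (P := P)
    (fun U => haveI := hoi U; (incl U).opensRange) (top_le_iff.mp fun x _ => ?_)).mpr fun U => ?_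
  · obtain ⟨U, hUs, hx⟩ :=
      Set.mem_iUnion₂.mp (hs (Set.mem_univ (pullback.fst a (D.map k.hom) x)))
    refine TopologicalSpace.Opens.mem_iSup.mpr ⟨⟨U, hUs⟩, ?_⟩
    obtain ⟨p, -, hp⟩ := Scheme.exists_preimage_of_isPullback
      (isPullback_mapNat D i₀ a (U.1.ι ≫ a) U.1.ι rfl k) (⟨_, hx⟩ : U.1.toScheme) x rfl
    exact ⟨p, hp⟩
  · haveI := hoi U
    rw [← Scheme.Hom.isoOpensRange_inv_comp, Category.assoc, P.cancel_left_of_respectsIso]
    change P ((mapNat D i₀ a (U.1.1.ι ≫ a) U.1.1.ι rfl).app k ≫ pullback.snd a (D.map k.hom))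
    rw [mapNat_snd]
    exact snd_of_hom D (U.1.1.ι ≫ a) P (g U) (hjU U)

include hc hX in
/-- Reduction to the affine case. -/
theorem exists_snd_of_affine_case' [CompactSpace ↥(D.obj i₀)] [QuasiSeparatedSpace ↥(D.obj i₀)]
    [CompactSpace X₀] [LocallyOfFinitePresentation a]
    (P : MorphismProperty Scheme.{u}) [P.IsStableUnderBaseChange] [IsZariskiLocalAtSource P]
    [IsZariskiLocalAtTarget P] (H : AffineCase P) (hf : P f) :
    ∃ j : Over i₀, P (pullback.snd a (D.map j.hom)) := by
  let j : Over i₀ := Over.mk (𝟙 i₀)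
  let N := pullback.snd a (D.map j.hom)
  haveI : LocallyOfFinitePresentation N := MorphismProperty.pullback_snd _ _ inferInstance
  haveI : CompactSpace ↥(D.obj j.left) := ‹CompactSpace ↥(D.obj i₀)›
  haveI : QuasiSeparatedSpace ↥(D.obj j.left) := ‹QuasiSeparatedSpace ↥(D.obj i₀)›
  haveI : CompactSpace ↥(pullback a (D.map j.hom)) := compactSpace_obj D i₀ a j
  haveI : QuasiCompact N := quasiCompact_of_compactSpace N
  obtain ⟨s, hs⟩ := isCompact_univ.elim_finite_subcover
    (fun U : (D.obj j.left).affineOpens => (U.1 : Set (D.obj j.left)))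
    (fun U => U.1.2) (fun x _ => by
      have := (iSup_affineOpens_eq_top (D.obj j.left)).ge (Set.mem_univ x)
      simpa using this)
  have hstage : ∀ U : {U // U ∈ s}, ∃ (k : Over i₀) (φ : k ⟶ j),
      P (pullback.snd a (D.map k.hom) ∣_ (D.map φ.left ⁻¹ᵁ U.1.1)) := by
    intro U
    let E := opensDiagram D j.left U.1.1
    let top : Over j.left := Over.mk (𝟙 j.left)
    let V' : (D.obj j.left).Opens := D.map top.hom ⁻¹ᵁ U.1.1
    haveI : IsAffine (E.obj top) := U.1.2.preimage (D.map top.hom)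
    haveI : CompactSpace ↥(N ⁻¹ᵁ V').toScheme := isCompact_iff_compactSpace.mp
      (N.isCompact_preimage (U.1.2.preimage (D.map top.hom)).isCompact)
    let a' : (N ⁻¹ᵁ V').toScheme ⟶ E.obj top := N ∣_ V'
    haveI : LocallyOfFinitePresentation a' :=
      IsZariskiLocalAtTarget.restrict (P := @LocallyOfFinitePresentation) inferInstance V'
    let cE := opensCone D c j.left U.1.1
    have hπ : cE.π.app top ≫ V'.ι = (c.π.app j.left ⁻¹ᵁ U.1.1).ι ≫ c.π.app j.left :=
      Scheme.Hom.resLE_comp_ι _ _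
    have hsq : IsPullback (pullback.fst a' (cE.π.app top) ≫ (N ⁻¹ᵁ V').ι)
        (pullback.snd a' (cE.π.app top)) N
        ((c.π.app j.left ⁻¹ᵁ U.1.1).ι ≫ c.π.app j.left) :=
      hπ ▸ (IsPullback.of_hasPullback a' (cE.π.app top)).paste_horiz
        (isPullback_morphismRestrict N V').flip
    have hP' : P (pullback.snd a' (cE.π.app top)) := by
      let l := (isPullback_snd D a hX j).lift (pullback.fst a' (cE.π.app top) ≫ (N ⁻¹ᵁ V').ι)
        (pullback.snd a' (cE.π.app top) ≫ (c.π.app j.left ⁻¹ᵁ U.1.1).ι)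
        (hsq.w.trans (Category.assoc _ _ _).symm)
      have h' : IsPullback l (pullback.snd a' (cE.π.app top)) f (c.π.app j.left ⁻¹ᵁ U.1.1).ι := by
        refine IsPullback.of_right ?_ ?_ (isPullback_snd D a hX j)
        · rw [IsPullback.lift_fst]
          exact hsq
        · rw [IsPullback.lift_snd]
      exact MorphismProperty.of_isPullback h' hf
    obtain ⟨l, hl⟩ := exists_snd_of_affine_source E (isLimitOpensCone D c hc j.left U.1.1) a'
      (IsPullback.of_hasPullback a' (cE.π.app top)) P H hP'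
    let k : Over i₀ := Over.mk (l.left.hom ≫ j.hom)
    let φ : k ⟶ j := Over.homMk l.left.hom rfl
    refine ⟨k, φ, ?_⟩
    let W : (D.obj l.left.left).Opens := D.map l.left.hom ⁻¹ᵁ U.1.1
    have hres : E.map l.hom ≫ V'.ι = W.ι ≫ D.map l.left.hom := by
      change (D.map l.hom.left).resLE _ _ _ ≫ _ = _
      rw [Scheme.Hom.resLE_comp_ι]
      congr 2
      exact (Category.comp_id _).symm.trans (Over.w l.hom)
    let M := pullback.snd a (D.map k.hom)
    have htot : IsPullback ((M ⁻¹ᵁ W).ι ≫ (diag D i₀ a).map φ) (M ∣_ W) N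
        (E.map l.hom ≫ V'.ι) :=
      hres ▸ (isPullback_morphismRestrict M W).flip.paste_horiz (isPullback_map D i₀ a φ)
    have h' := IsPullback.of_right (h₁₁ := (isPullback_morphismRestrict N V').lift
        (M ∣_ W ≫ E.map l.hom) ((M ⁻¹ᵁ W).ι ≫ (diag D i₀ a).map φ)
        (by rw [Category.assoc]; exact htot.w.symm))
      (by rw [IsPullback.lift_snd]; exact htot) (by rw [IsPullback.lift_fst])
      (isPullback_morphismRestrict N V').flip
    change P (M ∣_ W)
    rw [← h'.isoPullback_hom_snd]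
    exact (P.cancel_left_of_respectsIso _ _).mpr hl
  choose kU φU hU using hstage
  obtain ⟨k, φ, g, hg⟩ := IsCofiltered.wideCospan φU
  refine ⟨k, ?_⟩
  have hcov : ⨆ U : {U // U ∈ s}, D.map φ.left ⁻¹ᵁ U.1.1 = ⊤ := by
    refine top_le_iff.mp fun x _ => ?_
    obtain ⟨U, hUs, hx⟩ := Set.mem_iUnion₂.mp (hs (Set.mem_univ (D.map φ.left x)))
    exact TopologicalSpace.Opens.mem_iSup.mpr ⟨⟨U, hUs⟩, hx⟩
  rw [IsZariskiLocalAtTarget.iff_of_iSup_eq_top (P := P) _ hcov]
  intro U
  obtain ⟨r, t, -, hrt⟩ := exists_isPullback_restrict (isPullback_map D i₀ a (g U))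
    (W := D.map φ.left ⁻¹ᵁ U.1.1) (V := D.map (φU U).left ⁻¹ᵁ U.1.1)
    (by rw [← Scheme.Hom.comp_preimage, ← D.map_comp, ← Over.comp_left, hg U])
  exact MorphismProperty.of_isPullback hrt (hU U)

end GrothLib.LimDesc
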