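import Groth.Agent.Lib.LimDesc.Transfer
import Mathlib.RingTheory.FiniteType

/-!
# Descending closed immersions along limits
-/

set_option autoImplicit false
set_option backward.isDefEq.respectTransparency false
set_option linter.style.haveILetI false
universe u

open CategoryTheory Limits AlgebraicGeometry

noncomputable section

namespace GrothLib.LimDesc

lemma appTop_comp_apply {A B C : Scheme.{u}} (f : A ⟶ B) (g : B ⟶ C) (x : Γ(C, ⊤)) :
    (f ≫ g).appTop x = f.appTop (g.appTop x) := by simp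

/-- The restriction of a base change is a base change of the restriction. -/
theorem exists_isPullback_restrict {A B A' B' : Scheme.{u}} {f : A ⟶ B} {f' : A' ⟶ B'} {q : A' ⟶ A}
    {b : B' ⟶ B} (h : IsPullback q f' f b) {W : B'.Opens} {V : B.Opens} (e : W = b ⁻¹ᵁ V) :
    ∃ (r : (f' ⁻¹ᵁ W).toScheme ⟶ (f ⁻¹ᵁ V).toScheme) (s : W.toScheme ⟶ V.toScheme),
      s ≫ V.ι = W.ι ≫ b ∧ IsPullback r (f' ∣_ W) (f ∣_ V) s := by
  subst e
  let s := b ∣_ V
  have hs : s ≫ V.ι = (b ⁻¹ᵁ V).ι ≫ b := morphismRestrict_ι b V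
  have htot : IsPullback ((f' ⁻¹ᵁ (b ⁻¹ᵁ V)).ι ≫ q) (f' ∣_ (b ⁻¹ᵁ V)) f ((b ⁻¹ᵁ V).ι ≫ b) :=
    (isPullback_morphismRestrict f' (b ⁻¹ᵁ V)).flip.paste_horiz h
  rw [← hs] at htot
  refine ⟨(isPullback_morphismRestrict f V).lift (f' ∣_ (b ⁻¹ᵁ V) ≫ s) ((f' ⁻¹ᵁ (b ⁻¹ᵁ V)).ι ≫ q)
    (by rw [Category.assoc]; exact htot.w.symm), s, hs, ?_⟩
  refine IsPullback.of_right ?_ ?_ (isPullback_morphismRestrict f V).flip
  · rw [IsPullback.lift_snd]
    exact htot
  · rw [IsPullback.lift_fst]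

lemma appTop_eq_of_comp {A B C : Scheme.{u}} (f : A ⟶ B) (g : B ⟶ C) (r : A ⟶ C) (h : f ≫ g = r)
    (x : Γ(C, ⊤)) : f.appTop (g.appTop x) = r.appTop x := by
  rw [← h, appTop_comp_apply]

variable {I : Type u} [SmallCategory I] [IsCofiltered I] (D : I ⥤ Scheme.{u}) {c : Cone D}
  (hc : IsLimit c) [∀ (i j : I) (f : i ⟶ j), IsAffineHom (D.map f)] {i₀ : I}
  {X₀ : Scheme.{u}} (a : X₀ ⟶ D.obj i₀)
  {X : Scheme.{u}} {f : X ⟶ c.pt} {qX : X ⟶ X₀} (hX : IsPullback qX f a (c.π.app i₀))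

include hc hX in
/-- Closed immersions descend, affine case. -/
theorem exists_isClosedImmersion_snd_of_isAffine [IsAffine (D.obj i₀)] [IsAffine X₀]
    [LocallyOfFiniteType a] [IsClosedImmersion f] :
    ∃ j : Over i₀, IsClosedImmersion (pullback.snd a (D.map j.hom)) := by
  classical
  let E := Over.forget i₀ ⋙ D
  have hE : IsLimit (Cone.whisker (Over.forget i₀) c) :=
    (Functor.Initial.isLimitWhiskerEquiv (Over.forget i₀) c).symm hc
  haveI (j : Over i₀) : IsAffine (D.obj j.left) := isAffine_of_isAffineHom (D.map j.hom)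
  haveI (j : Over i₀) : IsAffine (E.obj j) := isAffine_of_isAffineHom (D.map j.hom)
  haveI : IsAffine c.pt := Scheme.isAffine_of_isLimit (Cone.whisker (Over.forget i₀) c) hE
  have hcX := isLimitCone D i₀ a hX hc
  have hft : a.appTop.hom.FiniteType := HasRingHomProperty.appTop @LocallyOfFiniteType a inferInstance
  algebraize [a.appTop.hom]
  obtain ⟨s, hs⟩ := hft
  let R : (j : Over i₀) → Subring Γ(pullback a (D.map j.hom), ⊤) := fun j =>
    (pullback.snd a (D.map j.hom)).appTop.hom.range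
  have key : ∀ b : Γ(X₀, ⊤), ∃ j : Over i₀, ∀ (k : Over i₀) (_ : k ⟶ j),
      (pullback.fst a (D.map k.hom)).appTop b ∈ R k := by
    intro b
    obtain ⟨x, hx⟩ := (IsClosedImmersion.isAffine_surjective_of_isAffine (f := f)).2 (qX.appTop b)
    obtain ⟨j, t, ht⟩ := exists_appTop_π_eq_of_isAffine_of_isLimit E _ hE x
    change (c.π.app j.left).appTop t = x at ht
    let e : Γ((diag D i₀ a).obj j, ⊤) :=
      (pullback.fst a (D.map j.hom)).appTop b - (pullback.snd a (D.map j.hom)).appTop t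
    have he : ((cone D i₀ a hX).π.app j).appTop e = 0 := by
      rw [map_sub, sub_eq_zero]
      exact (appTop_eq_of_comp _ _ _ (π_fst D i₀ a hX j) b).trans
        ((hx.symm.trans ((congrArg f.appTop ht).symm.trans (appTop_comp_apply _ _ _).symm)).trans
          (appTop_eq_of_comp _ _ _ (π_snd D i₀ a hX j) t).symm)
    obtain ⟨k₀, φ, hφ⟩ := exists_appTop_map_eq_zero_of_isLimit (diag D i₀ a) _ hcX e he
    refine ⟨k₀, fun k ψ => ⟨(D.map (ψ ≫ φ).left).appTop t, ?_⟩⟩
    rw [map_sub, sub_eq_zero] at hφ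
    have hφ' := (appTop_eq_of_comp _ _ _ (map_fst D i₀ a φ) b).symm.trans
      (hφ.trans (appTop_eq_of_comp _ _ _ (map_snd D i₀ a φ) t))
    have h1 := ((appTop_eq_of_comp _ _ _ (map_fst D i₀ a ψ) b).symm.trans
      (congrArg ((diag D i₀ a).map ψ).appTop hφ')).trans
      (appTop_eq_of_comp _ _ (pullback.snd a (D.map k.hom) ≫ D.map (ψ ≫ φ).left)
        (by rw [map_snd_assoc, ← D.map_comp]; rfl) t)
    rw [appTop_comp_apply] at h1
    exact h1.symm
  choose jb hjb using key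
  obtain ⟨k, -, g, -⟩ := IsCofiltered.wideCospan (I := {b // b ∈ s}) (i := Over.mk (𝟙 i₀))
    (fun b => (Over.homMk (jb b.1).hom : jb b.1 ⟶ Over.mk (𝟙 i₀)))
  refine ⟨k, IsClosedImmersion.of_surjective_of_isAffine _ ?_⟩
  have hA : ∀ b : Γ(X₀, ⊤), (pullback.fst a (D.map k.hom)).appTop b ∈ R k := by
    intro b
    have hb : b ∈ Algebra.adjoin Γ(D.obj i₀, ⊤) (s : Set Γ(X₀, ⊤)) := hs ▸ Algebra.mem_top
    induction hb using Algebra.adjoin_induction with
    | mem b hb => exact hjb b k (g ⟨b, hb⟩)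
    | algebraMap r =>
      refine ⟨(D.map k.hom).appTop r, ?_⟩
      change (pullback.snd a (D.map k.hom)).appTop ((D.map k.hom).appTop r) =
        (pullback.fst a (D.map k.hom)).appTop (a.appTop r)
      rw [← appTop_comp_apply, ← appTop_comp_apply, pullback.condition]
    | add x y _ _ hx hy => rw [map_add]; exact (R k).add_mem hx hy
    | mul x y _ _ hx hy => rw [map_mul]; exact (R k).mul_mem hx hy
  have hpo := isPushout_appTop_of_isPullback (IsPullback.of_hasPullback a (D.map k.hom))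
  let i1 : Γ(X₀, ⊤) ⟶ CommRingCat.of (R k) :=
    CommRingCat.ofHom ((pullback.fst a (D.map k.hom)).appTop.hom.codRestrict (R k) hA)
  let i2 : Γ(D.obj k.left, ⊤) ⟶ CommRingCat.of (R k) :=
    CommRingCat.ofHom ((pullback.snd a (D.map k.hom)).appTop.hom.codRestrict (R k) fun y => ⟨y, rfl⟩)
  have w : a.appTop ≫ i1 = (D.map k.hom).appTop ≫ i2 := by
    ext r
    exact congr($(hpo.w).hom r)
  have hid : hpo.desc i1 i2 w ≫ CommRingCat.ofHom (R k).subtype = 𝟙 _ := by
    apply hpo.hom_ext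
    · rw [hpo.inl_desc_assoc, Category.comp_id]; rfl
    · rw [hpo.inr_desc_assoc, Category.comp_id]; rfl
  intro y
  obtain ⟨z, hz⟩ := (hpo.desc i1 i2 w y).2
  exact ⟨z, hz.trans congr($(hid).hom y)⟩

include hc hX in
/-- Reduction to the affine case for affine morphisms of finite type. -/
theorem exists_snd_of_affine_case [CompactSpace ↥(D.obj i₀)] [QuasiSeparatedSpace ↥(D.obj i₀)]
    [CompactSpace X₀] [QuasiSeparatedSpace X₀] [LocallyOfFiniteType a] [IsAffineHom f]
    (P : MorphismProperty Scheme.{u}) [P.IsStableUnderBaseChange] [IsZariskiLocalAtTarget P]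
    (H : ∀ {J : Type u} [SmallCategory J] [IsCofiltered J] (E : J ⥤ Scheme.{u})
      [∀ (i j : J) (φ : i ⟶ j), IsAffineHom (E.map φ)] (cE : Cone E), IsLimit cE →
      ∀ (j₀ : J) [IsAffine (E.obj j₀)] {U : Scheme.{u}} [IsAffine U] (a' : U ⟶ E.obj j₀)
        [LocallyOfFiniteType a'] {X' : Scheme.{u}} {f' : X' ⟶ cE.pt} {q' : X' ⟶ U},
        IsPullback q' f' a' (cE.π.app j₀) → P f' →
          ∃ j : Over j₀, P (pullback.snd a' (E.map j.hom)))
    (hf : P f) : ∃ j : Over i₀, P (pullback.snd a (D.map j.hom)) := by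
  obtain ⟨j, hj⟩ := exists_isAffineHom_snd D hc a hX
  let N := pullback.snd a (D.map j.hom)
  haveI : LocallyOfFiniteType N := MorphismProperty.pullback_snd _ _ inferInstance
  haveI : CompactSpace ↥(D.obj j.left) := QuasiCompact.compactSpace_of_compactSpace (D.map j.hom)
  obtain ⟨s, hs⟩ := isCompact_univ.elim_finite_subcover
    (fun U : (D.obj j.left).affineOpens => (U.1 : Set (D.obj j.left)))
    (fun U => U.1.2) (fun x _ => by
      have := (iSup_affineOpens_eq_top (D.obj j.left)).ge (Set.mem_univ x)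
      simpa using this)
  have hstage : ∀ U : {U // U ∈ s}, ∃ (k : Over i₀) (φ : k ⟶ j),
      P (pullback.snd a (D.map k.hom) ∣_ (D.map φ.left ⁻¹ᵁ U.1.1)) := by
    intro U
    let E := opensDiagram D j.left U.1.1
    let top : Over j.left := Over.mk (𝟙 j.left)
    let V' : (D.obj j.left).Opens := D.map top.hom ⁻¹ᵁ U.1.1
    haveI : IsAffine (E.obj top) := U.1.2.preimage (D.map top.hom)
    haveI : IsAffine (N ⁻¹ᵁ V').toScheme := (U.1.2.preimage (D.map top.hom)).preimage N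
    let a' : (N ⁻¹ᵁ V').toScheme ⟶ E.obj top := N ∣_ V'
    haveI : LocallyOfFiniteType a' := IsZariskiLocalAtTarget.restrict (P := @LocallyOfFiniteType) inferInstance V'
    let cE := opensCone D c j.left U.1.1
    have hπ : cE.π.app top ≫ V'.ι = (c.π.app j.left ⁻¹ᵁ U.1.1).ι ≫ c.π.app j.left :=
      Scheme.Hom.resLE_comp_ι _ _
    have hsq : IsPullback (pullback.fst a' (cE.π.app top) ≫ (N ⁻¹ᵁ V').ι)
        (pullback.snd a' (cE.π.app top)) N
        ((c.π.app j.left ⁻¹ᵁ U.1.1).ι ≫ c.π.app j.left) :=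
      hπ ▸ (IsPullback.of_hasPullback a' (cE.π.app top)).paste_horiz
        (isPullback_morphismRestrict N V').flip
    have hP' : P (pullback.snd a' (cE.π.app top)) := by
      let l := (isPullback_snd D a hX j).lift (pullback.fst a' (cE.π.app top) ≫ (N ⁻¹ᵁ V').ι)
        (pullback.snd a' (cE.π.app top) ≫ (c.π.app j.left ⁻¹ᵁ U.1.1).ι)
        (hsq.w.trans (Category.assoc _ _ _).symm)
      have h' : IsPullback l (pullback.snd a' (cE.π.app top)) f (c.π.app j.left ⁻¹ᵁ U.1.1).ι := by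
        refine IsPullback.of_right ?_ ?_ (isPullback_snd D a hX j)
        · rw [IsPullback.lift_fst]
          exact hsq
        · rw [IsPullback.lift_snd]
      exact MorphismProperty.of_isPullback h' hf
    obtain ⟨l, hl⟩ := H E cE (isLimitOpensCone D c hc j.left U.1.1) top a'
      (IsPullback.of_hasPullback a' (cE.π.app top)) hP'
    let k : Over i₀ := Over.mk (l.left.hom ≫ j.hom)
    let φ : k ⟶ j := Over.homMk l.left.hom rfl
    refine ⟨k, φ, ?_⟩
    let W : (D.obj l.left.left).Opens := D.map l.left.hom ⁻¹ᵁ U.1.1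
    have hres : E.map l.hom ≫ V'.ι = W.ι ≫ D.map l.left.hom := by
      change (D.map l.hom.left).resLE _ _ _ ≫ _ = _
      rw [Scheme.Hom.resLE_comp_ι]
      congr 2
      exact (Category.comp_id _).symm.trans (Over.w l.hom)
    let M := pullback.snd a (D.map k.hom)
    have htot : IsPullback ((M ⁻¹ᵁ W).ι ≫ (diag D i₀ a).map φ) (M ∣_ W) N
        (E.map l.hom ≫ V'.ι) :=
      hres ▸ (isPullback_morphismRestrict M W).flip.paste_horiz (isPullback_map D i₀ a φ)
    have h' := IsPullback.of_right (h₁₁ := (isPullback_morphismRestrict N V').lift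
        (M ∣_ W ≫ E.map l.hom) ((M ⁻¹ᵁ W).ι ≫ (diag D i₀ a).map φ)
        (by rw [Category.assoc]; exact htot.w.symm))
      (by rw [IsPullback.lift_snd]; exact htot) (by rw [IsPullback.lift_fst])
      (isPullback_morphismRestrict N V').flip
    change P (M ∣_ W)
    rw [← h'.isoPullback_hom_snd]
    exact (P.cancel_left_of_respectsIso _ _).mpr hl
  choose kU φU hU using hstage
  obtain ⟨k, φ, g, hg⟩ := IsCofiltered.wideCospan φU
  refine ⟨k, ?_⟩
  have hcov : ⨆ U : {U // U ∈ s}, D.map φ.left ⁻¹ᵁ U.1.1 = ⊤ := by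
    refine top_le_iff.mp fun x _ => ?_
    obtain ⟨U, hUs, hx⟩ := Set.mem_iUnion₂.mp (hs (Set.mem_univ (D.map φ.left x)))
    exact TopologicalSpace.Opens.mem_iSup.mpr ⟨⟨U, hUs⟩, hx⟩
  rw [IsZariskiLocalAtTarget.iff_of_iSup_eq_top (P := P) _ hcov]
  intro U
  obtain ⟨r, t, -, hrt⟩ := exists_isPullback_restrict (isPullback_map D i₀ a (g U))
    (W := D.map φ.left ⁻¹ᵁ U.1.1) (V := D.map (φU U).left ⁻¹ᵁ U.1.1)
    (by rw [← Scheme.Hom.comp_preimage, ← D.map_comp, ← Over.comp_left, hg U])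
  exact MorphismProperty.of_isPullback hrt (hU U)

include hc hX in
/-- Closed immersions descend to a stage. -/
theorem exists_isClosedImmersion_snd [CompactSpace ↥(D.obj i₀)] [QuasiSeparatedSpace ↥(D.obj i₀)]
    [CompactSpace X₀] [QuasiSeparatedSpace X₀] [LocallyOfFiniteType a] [IsClosedImmersion f] :
    ∃ j : Over i₀, IsClosedImmersion (pullback.snd a (D.map j.hom)) :=
  exists_snd_of_affine_case D hc a hX @IsClosedImmersion
    (fun E _ _ hE _ _ _ _ a' _ _ _ _ hX' hf => by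
      haveI := hf
      exact exists_isClosedImmersion_snd_of_isAffine E hE a' hX')
    inferInstance

include hc hX in
/-- Immersions descend to a stage. -/
theorem exists_isImmersion_snd [CompactSpace ↥(D.obj i₀)] [QuasiSeparatedSpace ↥(D.obj i₀)]
    [CompactSpace X₀] [QuasiSeparatedSpace X₀] [LocallyOfFiniteType a] [IsImmersion f] :
    ∃ j : Over i₀, IsImmersion (pullback.snd a (D.map j.hom)) := by
  have hcX := isLimitCone D i₀ a hX hc
  haveI : CompactSpace X := Scheme.compactSpace_of_isLimit (diag D i₀ a) (cone D i₀ a hX) hcX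
  obtain ⟨O, hOc, hfO, hOle⟩ : ∃ O : c.pt.Opens, IsCompact (O : Set c.pt) ∧
      Set.range f ⊆ O ∧ O ≤ f.coborderRange := by
    have hcov : Set.range f ⊆
        ⋃ A : {A : c.pt.Opens // IsAffineOpen A ∧ A ≤ f.coborderRange}, (A.1 : Set c.pt) := by
      rintro _ ⟨x, rfl⟩
      have hx : f x ∈ f.coborderRange := subset_coborder ⟨x, rfl⟩
      obtain ⟨_, ⟨A, hA, rfl⟩, hxA, hAle⟩ :=
        c.pt.isBasis_affineOpens.exists_subset_of_mem_open hx f.coborderRange.2
      exact Set.mem_iUnion.mpr ⟨⟨A, hA, hAle⟩, hxA⟩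
    obtain ⟨t, ht⟩ := (isCompact_range f.continuous).elim_finite_subcover _ (fun A => A.1.2) hcov
    refine ⟨⨆ A ∈ t, A.1, ?_, fun x hx => ?_, iSup₂_le fun A _ => A.2.2⟩
    · simp only [TopologicalSpace.Opens.coe_iSup]
      exact t.finite_toSet.isCompact_biUnion fun A _ => A.2.1.isCompact
    · obtain ⟨A, hA, hxA⟩ := Set.mem_iUnion₂.mp (ht hx)
      exact TopologicalSpace.Opens.mem_iSup.mpr ⟨A, TopologicalSpace.Opens.mem_iSup.mpr ⟨hA, hxA⟩⟩
  obtain ⟨i, V, hV, hVU⟩ := exists_preimage_eq D c hc O hOc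
  obtain ⟨k₀, u₁, u₂, -⟩ := IsCofilteredOrEmpty.cone_objs i₀ i
  let k : Over i₀ := Over.mk u₁
  let Vk : (D.obj k₀).Opens := D.map u₂ ⁻¹ᵁ V
  have hVk : c.π.app k₀ ⁻¹ᵁ Vk = O := by
    rw [← hVU, ← Scheme.Hom.comp_preimage, c.w]
  have hVkc : IsCompact (Vk : Set (D.obj k₀)) := (D.map u₂).isCompact_preimage hV
  obtain ⟨k₁, φ, hk₁⟩ := exists_map_eq_top (diag D i₀ a) (cone D i₀ a hX) hcX (i := k)
    (pullback.snd a (D.map k.hom) ⁻¹ᵁ Vk) (by
      rw [← Scheme.Hom.comp_preimage, π_snd, Scheme.Hom.comp_preimage]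
      change f ⁻¹ᵁ (c.π.app k₀ ⁻¹ᵁ Vk) = ⊤
      rw [hVk]
      exact top_le_iff.mp fun x _ => hfO ⟨x, rfl⟩)
  let W : (D.obj k₁.left).Opens := D.map φ.left ⁻¹ᵁ Vk
  have hW : c.π.app k₁.left ⁻¹ᵁ W = O := by
    rw [← hVk, ← Scheme.Hom.comp_preimage, c.w]
    rfl
  have hWc : IsCompact (W : Set (D.obj k₁.left)) := (D.map φ.left).isCompact_preimage hVkc
  haveI : QuasiSeparatedSpace ↥(D.obj k₁.left) :=
    quasiSeparatedSpace_of_quasiSeparated (D.map k₁.hom)
  let N := pullback.snd a (D.map k₁.hom)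
  haveI : LocallyOfFiniteType N := MorphismProperty.pullback_snd _ _ inferInstance
  let E := opensDiagram D k₁.left W
  let top : Over k₁.left := Over.mk (𝟙 k₁.left)
  let V' : (D.obj k₁.left).Opens := D.map top.hom ⁻¹ᵁ W
  haveI : CompactSpace ↥(E.obj top) :=
    isCompact_iff_compactSpace.mp ((D.map top.hom).isCompact_preimage hWc)
  haveI : QuasiSeparatedSpace ↥(E.obj top) :=
    (isQuasiSeparated_iff_quasiSeparatedSpace _ V'.2).mp (.of_quasiSeparatedSpace _)
  have hN : N ⁻¹ᵁ W = ⊤ := by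
    have h1 : (diag D i₀ a).map φ ⁻¹ᵁ (pullback.snd a (D.map k.hom) ⁻¹ᵁ Vk) = ⊤ := hk₁
    rw [← Scheme.Hom.comp_preimage, map_snd, Scheme.Hom.comp_preimage] at h1
    exact h1
  have hV'W : V' = W := by simp [V', top]
  let a' : (N ⁻¹ᵁ V').toScheme ⟶ E.obj top := N ∣_ V'
  haveI : LocallyOfFiniteType a' := IsZariskiLocalAtTarget.restrict (P := @LocallyOfFiniteType) inferInstance V'
  have hc' : IsCompact ((N ⁻¹ᵁ V' : Scheme.Opens _) : Set ↥(pullback a (D.map k₁.hom))) := by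
    rw [hV'W, hN]
    haveI : CompactSpace ↥(pullback a (D.map k₁.hom)) := compactSpace_obj D i₀ a k₁
    exact isCompact_univ
  haveI : CompactSpace ↥(N ⁻¹ᵁ V').toScheme := isCompact_iff_compactSpace.mp hc'
  haveI : QuasiSeparatedSpace ↥(N ⁻¹ᵁ V').toScheme :=
    haveI : QuasiSeparatedSpace ↥(pullback a (D.map k₁.hom)) := quasiSeparatedSpace_obj D i₀ a k₁
    (isQuasiSeparated_iff_quasiSeparatedSpace _ (N ⁻¹ᵁ V').2).mp (.of_quasiSeparatedSpace _)
  let cE := opensCone D c k₁.left W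
  have hπ : cE.π.app top ≫ V'.ι = (c.π.app k₁.left ⁻¹ᵁ W).ι ≫ c.π.app k₁.left :=
    Scheme.Hom.resLE_comp_ι _ _
  have hsq : IsPullback (pullback.fst a' (cE.π.app top) ≫ (N ⁻¹ᵁ V').ι)
      (pullback.snd a' (cE.π.app top)) N
      ((c.π.app k₁.left ⁻¹ᵁ W).ι ≫ c.π.app k₁.left) :=
    hπ ▸ (IsPullback.of_hasPullback a' (cE.π.app top)).paste_horiz
      (isPullback_morphismRestrict N V').flip
  let f' := pullback.snd a' (cE.π.app top)
  let l := (isPullback_snd D a hX k₁).lift (pullback.fst a' (cE.π.app top) ≫ (N ⁻¹ᵁ V').ι)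
    (f' ≫ (c.π.app k₁.left ⁻¹ᵁ W).ι) (hsq.w.trans (Category.assoc _ _ _).symm)
  have h' : IsPullback l f' f (c.π.app k₁.left ⁻¹ᵁ W).ι := by
    refine IsPullback.of_right ?_ ?_ (isPullback_snd D a hX k₁)
    · rw [IsPullback.lift_fst]
      exact hsq
    · rw [IsPullback.lift_snd]
  haveI : IsImmersion f' := MorphismProperty.of_isPullback (P := @IsImmersion) h' inferInstance
  haveI : IsClosedImmersion f' := by
    refine IsClosedImmersion.of_isPreimmersion f' ?_
    have hr : Set.range f' = (c.π.app k₁.left ⁻¹ᵁ W).ι ⁻¹' Set.range f := by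
      ext y
      constructor
      · rintro ⟨p, rfl⟩
        exact ⟨l p, congr($(h'.w).base p)⟩
      · rintro ⟨x, hx⟩
        obtain ⟨p, -, hp⟩ := Scheme.exists_preimage_of_isPullback h' x y hx
        exact ⟨p, hp⟩
    rw [hr]
    have hle : Set.range (c.π.app k₁.left ⁻¹ᵁ W).ι ⊆ coborder (Set.range f) := by
      rw [Scheme.Opens.range_ι, hW]; exact hOle
    have hcl : (c.π.app k₁.left ⁻¹ᵁ W).ι ⁻¹' Set.range f =
        (c.π.app k₁.left ⁻¹ᵁ W).ι ⁻¹' closure (Set.range f) := by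
      refine Set.Subset.antisymm (Set.preimage_mono subset_closure) fun y hy => ?_
      have := coborder_inter_closure.le ⟨hle ⟨y, rfl⟩, hy⟩
      exact this
    rw [hcl]
    exact isClosed_closure.preimage (c.π.app k₁.left ⁻¹ᵁ W).ι.continuous
  obtain ⟨j, hj⟩ := exists_isClosedImmersion_snd E (isLimitOpensCone D c hc k₁.left W) a'
    (IsPullback.of_hasPullback a' (cE.π.app top))
  let n : Over i₀ := Over.mk (j.left.hom ≫ k₁.hom)
  let ψ : n ⟶ k₁ := Over.homMk j.left.hom rfl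
  refine ⟨n, ?_⟩
  let M := pullback.snd a (D.map n.hom)
  let W' : (D.obj j.left.left).Opens := D.map j.left.hom ⁻¹ᵁ W
  have hM : M ⁻¹ᵁ W' = ⊤ := by
    change (pullback.snd a (D.map n.hom) ≫ D.map ψ.left) ⁻¹ᵁ W = ⊤
    rw [← map_snd D i₀ a ψ, Scheme.Hom.comp_preimage, show pullback.snd a (D.map k₁.hom) ⁻¹ᵁ W = ⊤ from hN,
      Scheme.Hom.preimage_top]
  have hres : E.map j.hom ≫ V'.ι = W'.ι ≫ D.map j.left.hom := by
    change (D.map j.hom.left).resLE _ _ _ ≫ _ = _
    rw [Scheme.Hom.resLE_comp_ι]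
    congr 2
    exact (Category.comp_id _).symm.trans (Over.w j.hom)
  have htot : IsPullback ((M ⁻¹ᵁ W').ι ≫ (diag D i₀ a).map ψ) (M ∣_ W') N
      (E.map j.hom ≫ V'.ι) :=
    hres ▸ (isPullback_morphismRestrict M W').flip.paste_horiz (isPullback_map D i₀ a ψ)
  have h2 := IsPullback.of_right (h₁₁ := (isPullback_morphismRestrict N V').lift
      (M ∣_ W' ≫ E.map j.hom) ((M ⁻¹ᵁ W').ι ≫ (diag D i₀ a).map ψ)
      (by rw [Category.assoc]; exact htot.w.symm))
    (by rw [IsPullback.lift_snd]; exact htot) (by rw [IsPullback.lift_fst])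
    (isPullback_morphismRestrict N V').flip
  haveI : IsClosedImmersion (M ∣_ W') := by
    rw [← h2.isoPullback_hom_snd]
    haveI := hj
    infer_instance
  haveI : IsIso (M ⁻¹ᵁ W').ι := by rw [hM]; exact inferInstanceAs (IsIso (Scheme.topIso _).hom)
  have : IsImmersion ((M ⁻¹ᵁ W').ι ≫ M) := by rw [← morphismRestrict_ι]; infer_instance
  exact (MorphismProperty.cancel_left_of_respectsIso @IsImmersion _ _).mp this

end GrothLib.LimDesc
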