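import Groth.Agent.Lib.LimDesc.Inj
import Groth.Agent.Lib.IndQA.Basic
import Groth.Prelude.Def_Mor2
import Mathlib.AlgebraicGeometry.Morphisms.Immersion
import Mathlib.AlgebraicGeometry.ZariskisMainTheorem

/-!
# Descending properties of a morphism over a stage

For `a : X₀ ⟶ D i₀` with base change `f : X ⟶ c.pt`, properties of `f` hold for the base change
`pullback.snd a (D.map j.hom)` at some stage `j`.
-/

set_option autoImplicit false
set_option backward.isDefEq.respectTransparency false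
set_option linter.style.haveILetI false
universe u

open CategoryTheory Limits AlgebraicGeometry Topology

noncomputable section

namespace GrothLib.LimDesc

section Eventual

variable {J : Type u} [SmallCategory J] [IsCofiltered J] (F : J ⥤ Scheme.{u}) (cF : Cone F)
  (hF : IsLimit cF) [∀ (i j : J) (f : i ⟶ j), IsAffineHom (F.map f)]
  [∀ i, CompactSpace ↥(F.obj i)] [∀ i, QuasiSeparatedSpace ↥(F.obj i)]
  {S : Scheme.{u}} [CompactSpace S] [QuasiSeparatedSpace S] (t : F ⟶ (Functor.const J).obj S)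

include hF in
/-- If a property `P` of schemes descends along limits and passes to sources of affine morphisms,
then `P` of the preimages of affine opens of a fixed base descends. -/
theorem exists_forall_preimage (P : Scheme.{u} → Prop)
    (hP : ∀ {J' : Type u} [SmallCategory J'] [IsCofiltered J'] (G : J' ⥤ Scheme.{u}) (cG : Cone G),
      IsLimit cG → (∀ (i j : J') (f : i ⟶ j), IsAffineHom (G.map f)) →
        (∀ i, CompactSpace ↥(G.obj i)) → (∀ i, QuasiSeparatedSpace ↥(G.obj i)) → P cG.pt →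
          ∃ i, P (G.obj i))
    (hP' : ∀ {U V : Scheme.{u}} (g : U ⟶ V), IsAffineHom g → P V → P U)
    (i₀ : J) (H : ∀ W : S.Opens, IsAffineOpen W → P ((cF.π.app i₀ ≫ t.app i₀) ⁻¹ᵁ W).toScheme) :
    ∃ (k : J) (_ : k ⟶ i₀) (W : Set S.affineOpens), (⨆ U ∈ W, (U : S.Opens)) = ⊤ ∧
      ∀ U ∈ W, P (t.app k ⁻¹ᵁ (U : S.Opens)).toScheme := by
  obtain ⟨s, hsf, hs⟩ : ∃ s : Set S.affineOpens, s.Finite ∧ (⨆ U ∈ s, (U : S.Opens)) = ⊤ := by
    obtain ⟨s, hs⟩ := isCompact_univ.elim_finite_subcover (fun U : S.affineOpens => (U.1 : Set S))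
      (fun U => U.1.2) (fun x _ => by
        have := (iSup_affineOpens_eq_top S).ge (Set.mem_univ x)
        simpa using this)
    refine ⟨(s : Set S.affineOpens), s.finite_toSet, top_le_iff.mp fun x hx => ?_⟩
    have := hs (Set.mem_univ x)
    simpa using this
  have : Finite s := hsf
  have hstage : ∀ U : s, ∃ (k : J) (φ : k ⟶ i₀), P (t.app k ⁻¹ᵁ (U.1 : S.Opens)).toScheme := by
    intro U
    let U₀ : (F.obj i₀).Opens := t.app i₀ ⁻¹ᵁ (U.1 : S.Opens)
    haveI : QuasiCompact (t.app i₀) := @quasiCompact_of_compactSpace _ S (t.app i₀) _ _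
    have hU₀ : IsCompact (U₀ : Set (F.obj i₀)) := (t.app i₀).isCompact_preimage U.1.2.isCompact
    have hc (j : Over i₀) : CompactSpace ↥((opensDiagram F i₀ U₀).obj j) :=
      isCompact_iff_compactSpace.mp ((F.map j.hom).isCompact_preimage hU₀)
    have hq (j : Over i₀) : QuasiSeparatedSpace ↥((opensDiagram F i₀ U₀).obj j) :=
      (isQuasiSeparated_iff_quasiSeparatedSpace _ (F.map j.hom ⁻¹ᵁ U₀).2).mp
        (.of_quasiSeparatedSpace _)
    obtain ⟨j, hj⟩ := hP (opensDiagram F i₀ U₀) (opensCone F cF i₀ U₀)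
      (isLimitOpensCone F cF hF i₀ U₀) (fun _ _ _ => inferInstance) hc hq (H U.1.1 U.1.2)
    refine ⟨j.left, j.hom, ?_⟩
    have e : F.map j.hom ⁻¹ᵁ U₀ = t.app j.left ⁻¹ᵁ (U.1 : S.Opens) := by
      rw [← Scheme.Hom.comp_preimage, t.naturality]
      simp
    rw [← e]
    exact hj
  choose kU φU hU using hstage
  obtain ⟨k, φ, g, hg⟩ := IsCofiltered.wideCospan φU
  refine ⟨k, φ, s, hs, fun U hUs => ?_⟩
  let O : (F.obj (kU ⟨U, hUs⟩)).Opens := t.app _ ⁻¹ᵁ (U : S.Opens)
  have e : F.map (g ⟨U, hUs⟩) ⁻¹ᵁ O = t.app k ⁻¹ᵁ (U : S.Opens) := by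
    rw [← Scheme.Hom.comp_preimage, t.naturality]
    simp
  rw [← e]
  exact hP' (F.map (g ⟨U, hUs⟩) ∣_ O) (IsZariskiLocalAtTarget.restrict (P := @IsAffineHom) inferInstance O)
    (hU ⟨U, hUs⟩)

include hF in
/-- If the limit is affine over `S`, then so is some stage. -/
theorem eventually_isAffineHom (i₀ : J) [IsAffineHom (cF.π.app i₀ ≫ t.app i₀)] :
    ∃ (k : J) (_ : k ⟶ i₀), IsAffineHom (t.app k) := by
  obtain ⟨k, φ, W, hW, hW'⟩ := exists_forall_preimage F cF hF t (fun U => IsAffine U)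
    (fun G cG hG h1 h2 h3 h => @Scheme.exists_isAffine_of_isLimit _ _ G cG hG _
      (fun {i j} f => h1 i j f) h2 h3 h)
    (fun g _ _ => isAffine_of_isAffineHom g) i₀ (fun U hU => hU.preimage _)
  refine ⟨k, φ, isAffineHom_of_forall_exists_isAffineOpen _ fun x => ?_⟩
  have : x ∈ ⨆ U ∈ W, (U : S.Opens) := hW.ge (Set.mem_univ x)
  simp only [TopologicalSpace.Opens.mem_iSup] at this
  obtain ⟨U, hU, hx⟩ := this
  exact ⟨U.1, hx, U.2, hW' U hU⟩

include hF in
/-- If the preimages of affine opens of `S` in the limit are quasi-affine, then so are those in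
some stage. -/
theorem eventually_isQuasiAffine (i₀ : J)
    (H : ∀ V : S.Opens, IsAffineOpen V →
      Scheme.IsQuasiAffine ((cF.π.app i₀ ≫ t.app i₀) ⁻¹ᵁ V).toScheme) :
    ∃ (k : J) (_ : k ⟶ i₀), MoreMor.IsIndQuasiAffineHom (t.app k) := by
  obtain ⟨k, φ, W, hW, hW'⟩ := exists_forall_preimage F cF hF t (fun U => U.IsQuasiAffine)
    (fun G cG hG h1 h2 h3 h => @Scheme.exists_isQuasiAffine_of_isLimit _ _ G cG hG _
      (fun {i j} f => h1 i j f) h2 h3 h)
    (fun g _ _ => Scheme.IsQuasiAffine.of_isAffineHom g) i₀ H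
  refine ⟨k, φ, (IndQA.indQA_iff _).mpr fun V hV U hle hU => ?_⟩
  haveI : IsAffine V.toScheme := hV
  haveI : CompactSpace U.toScheme := isCompact_iff_compactSpace.mp hU
  let h := (t.app k).resLE V U hle
  refine IndQA.qa_of_forall_preimage h fun x => ?_
  have : V.ι (h x) ∈ ⨆ O ∈ W, (O : S.Opens) := hW.ge (Set.mem_univ _)
  simp only [TopologicalSpace.Opens.mem_iSup] at this
  obtain ⟨O, hO, hx⟩ := this
  obtain ⟨_, ⟨_, ⟨r, rfl⟩, rfl⟩, hxr, hrO⟩ :=
    (isBasis_basicOpen V.toScheme).exists_subset_of_mem_open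
      (show h x ∈ V.ι ⁻¹ᵁ (O : S.Opens) from hx) (V.ι ⁻¹ᵁ (O : S.Opens)).2
  refine ⟨r, hxr, ?_⟩
  rw [IndQA.qa_image_iff U.ι]
  refine IndQA.qa_mono (hW' O hO) ?_ ?_
  · rw [Scheme.Hom.coe_image]
    exact (h.isCompact_preimage ((isAffineOpen_top _).basicOpen r).isCompact).image U.ι.continuous
  · rintro _ ⟨y, hy, rfl⟩
    have h1 : V.ι (h y) ∈ (O : S.Opens) := hrO hy
    rw [← Scheme.Hom.comp_apply, Scheme.Hom.resLE_comp_ι, Scheme.Hom.comp_apply] at h1
    exact h1

end Eventual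

variable {I : Type u} [SmallCategory I] [IsCofiltered I] (D : I ⥤ Scheme.{u}) {c : Cone D}
  (hc : IsLimit c) [∀ (i j : I) (f : i ⟶ j), IsAffineHom (D.map f)] {i₀ : I}
  [CompactSpace ↥(D.obj i₀)] [QuasiSeparatedSpace ↥(D.obj i₀)]
  {X₀ : Scheme.{u}} (a : X₀ ⟶ D.obj i₀) [CompactSpace X₀] [QuasiSeparatedSpace X₀]
  {X : Scheme.{u}} {f : X ⟶ c.pt} {qX : X ⟶ X₀} (hX : IsPullback qX f a (c.π.app i₀))

omit [IsCofiltered I] [∀ (i j : I) (f : i ⟶ j), IsAffineHom (D.map f)]
  [CompactSpace ↥(D.obj i₀)] [QuasiSeparatedSpace ↥(D.obj i₀)] [CompactSpace X₀]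
  [QuasiSeparatedSpace X₀] in
include hX in
/-- The square at a stage. -/
lemma isPullback_snd (j : Over i₀) :
    IsPullback ((cone D i₀ a hX).π.app j) f (pullback.snd a (D.map j.hom)) (c.π.app j.left) := by
  refine IsPullback.of_right ?_ (π_snd D i₀ a hX j) (IsPullback.of_hasPullback a (D.map j.hom))
  rw [π_fst, c.w]
  exact hX

/-- The structure maps of the diagram of base changes. -/
def toBase : diag D i₀ a ⟶ (Functor.const (Over i₀)).obj (D.obj i₀) where
  app j := pullback.fst a (D.map j.hom) ≫ a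
  naturality j k φ := by
    refine (map_fst_assoc D i₀ a φ _).trans ?_
    simp

include hc hX in
/-- Affine morphisms descend to a stage. -/
theorem exists_isAffineHom_snd [IsAffineHom f] :
    ∃ j : Over i₀, IsAffineHom (pullback.snd a (D.map j.hom)) := by
  haveI := isAffineHom_π_app D c hc i₀
  let top : Over i₀ := Over.mk (𝟙 i₀)
  haveI : IsAffineHom ((cone D i₀ a hX).π.app top ≫ (toBase D a).app top) := by
    change IsAffineHom ((cone D i₀ a hX).π.app top ≫ pullback.fst a (D.map top.hom) ≫ a)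
    rw [π_fst_assoc, hX.w]
    infer_instance
  obtain ⟨k, -, hk⟩ := eventually_isAffineHom (diag D i₀ a) _ (isLimitCone D i₀ a hX hc)
    (toBase D a) top
  refine ⟨k, ?_⟩
  change IsAffineHom (pullback.fst a (D.map k.hom) ≫ a) at hk
  rw [pullback.condition] at hk
  exact IsAffineHom.of_comp _ (D.map k.hom)

include hc hX in
/-- Morphisms with quasi-affine preimages of affine opens descend to a stage. -/
theorem exists_indQA_snd (hf : Mor2.IsQuasiAffine f) :
    ∃ j : Over i₀, MoreMor.IsIndQuasiAffineHom (pullback.snd a (D.map j.hom)) := by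
  haveI := isAffineHom_π_app D c hc i₀
  let top : Over i₀ := Over.mk (𝟙 i₀)
  have e : (cone D i₀ a hX).π.app top ≫ (toBase D a).app top = f ≫ c.π.app i₀ := by
    change (cone D i₀ a hX).π.app top ≫ pullback.fst a (D.map top.hom) ≫ a = _
    rw [π_fst_assoc, hX.w]
  obtain ⟨k, -, hk⟩ := eventually_isQuasiAffine (diag D i₀ a) _ (isLimitCone D i₀ a hX hc)
    (toBase D a) top (fun V hV => by
      rw [e, Scheme.Hom.comp_preimage]
      exact hf.2 _ (hV.preimage _))
  refine ⟨k, ?_⟩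
  change MoreMor.IsIndQuasiAffineHom (pullback.fst a (D.map k.hom) ≫ a) at hk
  rw [pullback.condition] at hk
  exact IndQA.indQA_of_comp _ _ hk

omit [CompactSpace ↥(D.obj i₀)] [QuasiSeparatedSpace X₀] in
include hc hX in
/-- Monomorphisms descend to a stage. -/
theorem exists_mono_snd [LocallyOfFiniteType a] [Mono f] :
    ∃ j : Over i₀, Mono (pullback.snd a (D.map j.hom)) := by
  obtain ⟨j, hj⟩ := exists_mono D hc a (𝟙 (D.obj i₀))
    (IsPullback.of_id_snd : IsPullback (c.π.app i₀) (𝟙 c.pt) (𝟙 (D.obj i₀)) (c.π.app i₀)) hX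
  refine ⟨j, ⟨fun {T} u v huv => ?_⟩⟩
  let e : pullback a (D.map j.hom) ⟶ pullback (a ≫ 𝟙 _) (D.map j.hom) :=
    pullback.lift (pullback.fst _ _) (pullback.snd _ _) (by rw [Category.comp_id, pullback.condition])
  have h2 : (mapNat D i₀ (𝟙 (D.obj i₀)) (a ≫ 𝟙 _) a rfl).app j ≫
      pullback.snd (𝟙 _) (D.map j.hom) = pullback.snd _ _ := mapNat_snd _ _ _ _ _ _ _
  have h3 : u ≫ e = v ≫ e := by
    rw [← cancel_mono ((mapNat D i₀ (𝟙 (D.obj i₀)) (a ≫ 𝟙 _) a rfl).app j),
      ← cancel_mono (pullback.snd (𝟙 _) (D.map j.hom)), Category.assoc, Category.assoc,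
      Category.assoc, Category.assoc, h2]
    simpa [e] using huv
  apply pullback.hom_ext
  · simpa [e] using congrArg (· ≫ pullback.fst _ _) h3
  · exact huv

include hc hX in
/-- Open immersions descend to a stage. -/
theorem exists_isOpenImmersion_snd [LocallyOfFinitePresentation a] [IsOpenImmersion f] :
    ∃ j : Over i₀, IsOpenImmersion (pullback.snd a (D.map j.hom)) := by
  obtain ⟨m, hm⟩ := exists_mono_snd D hc a hX
  have hcX := isLimitCone D i₀ a hX hc
  haveI : CompactSpace X := Scheme.compactSpace_of_isLimit (diag D i₀ a) (cone D i₀ a hX) hcX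
  obtain ⟨i, V, hV, hVU⟩ := exists_preimage_eq D c hc f.opensRange (by
    rw [Scheme.Hom.coe_opensRange]; exact isCompact_range f.continuous)
  obtain ⟨k₀, u₁, u₂, -⟩ := IsCofilteredOrEmpty.cone_objs m.left i
  let k : Over i₀ := Over.mk (u₁ ≫ m.hom)
  let Vk : (D.obj k₀).Opens := D.map u₂ ⁻¹ᵁ V
  have hVk : c.π.app k₀ ⁻¹ᵁ Vk = f.opensRange := by
    rw [← hVU, ← Scheme.Hom.comp_preimage, c.w]
  haveI : QuasiCompact (D.map u₂) := inferInstance
  have hVkc : IsCompact (Vk : Set (D.obj k₀)) := (D.map u₂).isCompact_preimage hV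
  obtain ⟨k₁, φ, hk₁⟩ := exists_map_eq_top (diag D i₀ a) (cone D i₀ a hX) hcX (i := k)
    (pullback.snd a (D.map k.hom) ⁻¹ᵁ Vk) (by
      rw [← Scheme.Hom.comp_preimage, π_snd, Scheme.Hom.comp_preimage]
      change f ⁻¹ᵁ (c.π.app k₀ ⁻¹ᵁ Vk) = ⊤
      rw [hVk]
      exact top_le_iff.mp fun x _ => ⟨x, rfl⟩)
  let W : (D.obj k₁.left).Opens := D.map φ.left ⁻¹ᵁ Vk
  have hW : c.π.app k₁.left ⁻¹ᵁ W = f.opensRange := by
    rw [← hVk, ← Scheme.Hom.comp_preimage, c.w]
    rfl
  have hWc : IsCompact (W : Set (D.obj k₁.left)) := (D.map φ.left).isCompact_preimage hVkc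
  haveI : QuasiSeparatedSpace ↥(D.obj k₁.left) :=
    quasiSeparatedSpace_of_quasiSeparated (D.map k₁.hom)
  let E := opensDiagram D k₁.left W
  have (j : Over k₁.left) : CompactSpace ↥(E.obj j) :=
    isCompact_iff_compactSpace.mp ((D.map j.hom).isCompact_preimage hWc)
  have (j : Over k₁.left) : QuasiSeparatedSpace ↥(E.obj j) :=
    haveI : QuasiSeparatedSpace ↥(D.obj j.left) := quasiSeparatedSpace_of_quasiSeparated (D.map j.hom)
    (isQuasiSeparated_iff_quasiSeparatedSpace _ (D.map j.hom ⁻¹ᵁ W).2).mp (.of_quasiSeparatedSpace _)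
  let tE : E ⟶ (Functor.const (Over k₁.left)).obj (D.obj i₀) :=
    { app := fun j => (D.map j.hom ⁻¹ᵁ W).ι ≫ D.map j.hom ≫ D.map k₁.hom
      naturality := fun j l ψ => by
        change (D.map ψ.left).resLE _ _ _ ≫ _ = _ ≫ 𝟙 _
        rw [Scheme.Hom.resLE_comp_ι_assoc, ← D.map_comp_assoc, Over.w ψ]
        exact (Category.comp_id _).symm }
  let σ : (c.π.app k₁.left ⁻¹ᵁ W).toScheme ⟶ X :=
    IsOpenImmersion.lift f (c.π.app k₁.left ⁻¹ᵁ W).ι (by
      rw [Scheme.Opens.range_ι, hW, Scheme.Hom.coe_opensRange])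
  obtain ⟨l, g, hg, hg'⟩ := Scheme.exists_π_app_comp_eq_of_locallyOfFinitePresentation E tE a
    (opensCone D c k₁.left W) (isLimitOpensCone D c hc k₁.left W) (σ ≫ qX) (by
      ext j
      change (c.π.app j.left).resLE _ _ _ ≫ (D.map j.hom ⁻¹ᵁ W).ι ≫ D.map j.hom ≫ D.map k₁.hom =
        (σ ≫ qX) ≫ a
      rw [Scheme.Hom.resLE_comp_ι_assoc, c.w_assoc, c.w, Category.assoc, hX.w]
      exact (IsOpenImmersion.lift_fac_assoc _ _ _ _).symm)
  change g ≫ a = (D.map l.hom ⁻¹ᵁ W).ι ≫ D.map l.hom ≫ D.map k₁.hom at hg'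
  let n : Over i₀ := Over.mk (l.hom ≫ k₁.hom)
  let O : (D.obj l.left).Opens := D.map l.hom ⁻¹ᵁ W
  let s : O.toScheme ⟶ pullback a (D.map n.hom) :=
    pullback.lift g O.ι (by
      change g ≫ a = O.ι ≫ D.map (l.hom ≫ k₁.hom)
      rw [hg', Functor.map_comp])
  have hs : s ≫ pullback.snd a (D.map n.hom) = O.ι := pullback.lift_snd _ _ _
  let ψ : n ⟶ m := Over.homMk (l.hom ≫ φ.left ≫ u₁) (by
    have := Over.w φ
    simp only [k, Over.mk_hom] at this
    simp [n, this])
  haveI : Mono (pullback.snd a (D.map n.hom)) :=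
    MorphismProperty.of_isPullback (P := MorphismProperty.monomorphisms Scheme)
      (isPullback_map D i₀ a ψ) hm
  have hr : Set.range (pullback.snd a (D.map n.hom)) ⊆ Set.range O.ι := by
    rintro _ ⟨p, rfl⟩
    rw [Scheme.Opens.range_ι]
    let ψ' : n ⟶ k₁ := Over.homMk l.hom rfl
    have h1 : (diag D i₀ a).map ψ' p ∈
        (diag D i₀ a).map φ ⁻¹ᵁ (pullback.snd a (D.map k.hom) ⁻¹ᵁ Vk) := by rw [hk₁]; trivial
    change ((diag D i₀ a).map ψ' ≫ (diag D i₀ a).map φ ≫ pullback.snd a (D.map k.hom)) p ∈ Vk at h1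
    rw [map_snd, map_snd_assoc] at h1
    exact h1
  let r := IsOpenImmersion.lift O.ι (pullback.snd a (D.map n.hom)) hr
  have hr' : r ≫ O.ι = pullback.snd a (D.map n.hom) := IsOpenImmersion.lift_fac _ _ _
  haveI : IsIso r := ⟨s, by
    rw [← cancel_mono (pullback.snd a (D.map n.hom)), Category.assoc, hs, hr', Category.id_comp],
    by rw [← cancel_mono O.ι, Category.assoc, hr', hs, Category.id_comp]⟩
  refine ⟨n, ?_⟩
  rw [← hr']
  infer_instance

include hc hX in
/-- Local quasi-finiteness descends to a stage. -/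
theorem exists_locallyQuasiFinite_snd [LocallyOfFiniteType a] [LocallyQuasiFinite f] :
    ∃ j : Over i₀, LocallyQuasiFinite (pullback.snd a (D.map j.hom)) := by
  let top : Over i₀ := Over.mk (𝟙 i₀)
  let g := pullback.snd a (D.map top.hom)
  have hcX := isLimitCone D i₀ a hX hc
  have hsq := isPullback_snd D a hX top
  haveI : QuasiCompact a := quasiCompact_of_compactSpace a
  haveI : QuasiCompact f := MorphismProperty.of_isPullback (P := @QuasiCompact) hX inferInstance
  have hall : (cone D i₀ a hX).π.app top ⁻¹ᵁ g.quasiFiniteLocus = ⊤ := by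
    refine top_le_iff.mp fun x _ => ?_
    change g.QuasiFiniteAt _
    set z := (cone D i₀ a hX).π.app top x with hz
    have hzy : g z = c.π.app i₀ (f x) := congr($(hsq.w).base x)
    have hfin : (g ⁻¹' {g z}).Finite := by
      refine ((f.finite_preimage_singleton (f x)).image ((cone D i₀ a hX).π.app top)).subset ?_
      intro w hw
      obtain ⟨p, hp1, hp2⟩ := Scheme.exists_preimage_of_isPullback hsq w (f x) (hw.trans hzy)
      exact ⟨p, hp2, hp1⟩
    haveI : Finite ↥(g.fiber (g z)) := @Finite.of_equiv _ _ hfin.to_subtype (g.fiberHomeo (g z)).symm.toEquiv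
    haveI : LocallyOfFiniteType (g.fiberToSpecResidueField (g z)) :=
      MorphismProperty.pullback_snd _ _ inferInstance
    haveI : LocallyQuasiFinite (g.fiberToSpecResidueField (g z)) :=
      .of_finite_preimage_singleton _ fun _ => Set.toFinite _
    haveI : IsLocallyArtinian (g.fiber (g z)) :=
      .of_locallyQuasiFinite (g.fiberToSpecResidueField (g z))
    exact Scheme.Hom.quasiFiniteAt_iff_isOpen_singleton_asFiber.mpr (isOpen_discrete _)
  obtain ⟨j, φ, hj⟩ := exists_map_eq_top (diag D i₀ a) _ hcX g.quasiFiniteLocus hall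
  refine ⟨j, ?_⟩
  let gj := pullback.snd a (D.map j.hom)
  let U := (diag D i₀ a).map φ ⁻¹ᵁ g.quasiFiniteLocus
  have hsqU : IsPullback ((diag D i₀ a).map φ ∣_ g.quasiFiniteLocus) (U.ι ≫ gj)
      (g.quasiFiniteLocus.ι ≫ g) (D.map φ.left) :=
    (isPullback_morphismRestrict ((diag D i₀ a).map φ) g.quasiFiniteLocus).paste_vert
      (isPullback_map D i₀ a φ)
  haveI : LocallyQuasiFinite (U.ι ≫ gj) :=
    MorphismProperty.of_isPullback (P := @LocallyQuasiFinite) hsqU inferInstance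
  rw [← Scheme.Hom.quasiFiniteLocus_eq_top_iff]
  refine top_le_iff.mp fun x _ => ?_
  have hx : x ∈ U := hj.ge (Set.mem_univ x)
  exact Scheme.Hom.quasiFiniteAt_comp_iff_of_isOpenImmersion.mp
    ((U.ι ≫ gj).quasiFiniteAt ⟨x, hx⟩)

end GrothLib.LimDesc
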